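import Mathlib
import Cfsg.Agent.Lib.Frobenius.Fpf
import Cfsg.Agent.Lib.Solvable.Hall

open scoped Pointwise

/-! Higman's lemma: in a solvable group three primes are never pairwise non-adjacent in the
prime graph. -/

namespace CfsgLib.ThreePrimes

variable {G : Type*} [Group G] [Finite G]

/-- An element of prime order `p` commuting with one of prime order `q` gives order `p * q`. -/
theorem orderOf_eq_mul {p q : ℕ} (hp : p.Prime) (hq : q.Prime) (hpq : p ≠ q) {x y : G}
    (hx : orderOf x = p) (hy : orderOf y = q) (h : Commute x y) : orderOf (x * y) = p * q := by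
  rw [h.orderOf_mul_eq_mul_orderOf_of_coprime
    (by rw [hx, hy]; exact (Nat.coprime_primes hp hq).mpr hpq), hx, hy]

/-- A group whose prime divisors of the order avoid the `p`-adjacent primes acts fixed-point-freely
on every `p`-subgroup it normalises. -/
theorem fpf_of_no_adjacent {p : ℕ} (hp : p.Prime) {V A : Subgroup G} (hV : IsPGroup p V)
    (hno : ∀ q : ℕ, q.Prime → q ∣ Nat.card A → q ≠ p ∧ ∀ g : G, orderOf g ≠ p * q) :
    ∀ a ∈ A, a ≠ 1 → V ⊓ Subgroup.centralizer {a} = ⊥ := by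
  intro a ha ha1
  rw [eq_bot_iff]
  intro v hv
  obtain ⟨hvV, hva⟩ := Subgroup.mem_inf.mp hv
  rw [Subgroup.mem_centralizer_singleton_iff] at hva
  rw [Subgroup.mem_bot]
  by_contra hv1
  have hne : orderOf a ≠ 1 := fun h => ha1 (orderOf_eq_one_iff.mp h)
  obtain ⟨q, hq, hqd⟩ := Nat.exists_prime_and_dvd hne
  have hqA : q ∣ Nat.card A := hqd.trans (Subgroup.orderOf_dvd_natCard A ha)
  obtain ⟨hqp, hn⟩ := hno q hq hqA
  have := Fact.mk hp
  obtain ⟨k, hk⟩ := (IsPGroup.iff_orderOf.mp hV) ⟨v, hvV⟩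
  rw [Subgroup.orderOf_mk] at hk
  have hk0 : k ≠ 0 := fun h => hv1 (orderOf_eq_one_iff.mp (by rw [hk, h, pow_zero]))
  apply hn (v ^ (orderOf v / p) * a ^ (orderOf a / q))
  exact orderOf_eq_mul hp hq (Ne.symm hqp)
    (orderOf_pow_orderOf_div (orderOf_pos v).ne' (hk ▸ dvd_pow_self p hk0))
    (orderOf_pow_orderOf_div (orderOf_pos a).ne' hqd)
    ((show Commute v a from hva).pow_pow _ _)

/-- A nontrivial solvable group has a nontrivial abelian normal `p`-subgroup for some prime `p`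
dividing its order. -/
theorem exists_abelian_normal_pgroup (H : Subgroup G) [Group.IsSolvable H] (hH : H ≠ ⊥) :
    ∃ p : ℕ, p.Prime ∧ p ∣ Nat.card H ∧ ∃ V : Subgroup G, V ≤ H ∧ V ≠ ⊥ ∧ IsPGroup p V ∧
      IsMulCommutative V ∧ H ≤ Subgroup.normalizer (V : Set G) := by
  have : Nontrivial H := (Subgroup.nontrivial_iff_ne_bot H).mpr hH
  obtain ⟨p, N, hp, hNn, hN, hN1⟩ := CfsgLib.Solvable.exists_normal_pgroup_ne_bot (G := H)
  have := Fact.mk hp
  have hpH : p ∣ Nat.card H := by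
    obtain ⟨k, hk⟩ := IsPGroup.iff_card.mp hN
    have hk0 : k ≠ 0 := fun h => hN1 (Subgroup.card_eq_one.mp (by rw [hk, h, pow_zero]))
    exact (hk ▸ dvd_pow_self p hk0).trans (Subgroup.card_subgroup_dvd_card N)
  have : Nontrivial N := (Subgroup.nontrivial_iff_ne_bot N).mpr hN1
  have := hN.center_nontrivial
  set Z := (Subgroup.center N).map N.subtype
  have hZn : Z.Normal := ConjAct.normal_of_characteristic_of_normal
  refine ⟨p, hp, hpH, Z.map H.subtype, Subgroup.map_subtype_le _, ?_,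
    ((hN.to_subgroup _).map _).map _, ?_, ?_⟩
  · rw [Ne, Subgroup.map_eq_bot_iff_of_injective _ H.subtype_injective,
      Subgroup.map_eq_bot_iff_of_injective _ N.subtype_injective]
    exact (Subgroup.nontrivial_iff_ne_bot _).mp this
  · refine ⟨⟨?_⟩⟩
    rintro ⟨_, _, ⟨a, ha, rfl⟩, rfl⟩ ⟨_, _, ⟨b, hb, rfl⟩, rfl⟩
    apply Subtype.ext
    show H.subtype (N.subtype a) * H.subtype (N.subtype b) =
      H.subtype (N.subtype b) * H.subtype (N.subtype a)
    rw [← map_mul, ← map_mul, ← map_mul, ← map_mul, Subgroup.mem_center_iff.mp hb a]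
  · intro h hh
    rw [Subgroup.mem_normalizer_iff]
    intro x
    constructor
    · rintro ⟨z, hz, rfl⟩
      exact ⟨⟨h, hh⟩ * z * ⟨h, hh⟩⁻¹, hZn.conj_mem z hz _, rfl⟩
    · rintro ⟨z, hz, hzx⟩
      exact ⟨⟨h, hh⟩⁻¹ * z * ⟨h, hh⟩,
        by simpa using hZn.conj_mem z hz (⟨h, hh⟩ : H)⁻¹, by
          show h⁻¹ * (z : G) * h = x
          rw [show (z : G) = h * x * h⁻¹ from hzx]; group⟩

/-- **Higman**: a finite solvable group whose order is divisible by the distinct primes `p`, `q`,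
`r` has an element of order `pq`, `pr` or `qr`. -/
theorem exists_adjacent [Group.IsSolvable G] {p q r : ℕ} (hp : p.Prime) (hq : q.Prime)
    (hr : r.Prime) (hpq : p ≠ q) (hpr : p ≠ r) (hqr : q ≠ r) (hpG : p ∣ Nat.card G)
    (hqG : q ∣ Nat.card G) (hrG : r ∣ Nat.card G) :
    ∃ g : G, orderOf g = p * q ∨ orderOf g = p * r ∨ orderOf g = q * r := by
  by_contra hcon
  push Not at hcon
  have hno : ∀ a ∈ ({p, q, r} : Set ℕ), ∀ b ∈ ({p, q, r} : Set ℕ), a ≠ b →
      ∀ g : G, orderOf g ≠ a * b := by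
    intro a ha b hb hab g
    obtain ⟨h1, h2, h3⟩ := hcon g
    rcases ha with rfl | rfl | rfl <;> rcases hb with rfl | rfl | rfl <;>
      first
        | exact absurd rfl hab
        | assumption
        | (rw [mul_comm]; assumption)
  have hprime : ∀ a ∈ ({p, q, r} : Set ℕ), a.Prime ∧ a ∣ Nat.card G := by
    rintro a (rfl | rfl | rfl) <;> exact ⟨by assumption, by assumption⟩
  obtain ⟨H, hH⟩ := CfsgLib.Solvable.exists_isPiHall (G := G) ({p, q, r} : Set ℕ)
  have hdH : ∀ a ∈ ({p, q, r} : Set ℕ), a ∣ Nat.card H := fun a ha => by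
    have h := (hprime a ha).2
    rw [← Subgroup.card_mul_index H] at h
    exact ((hprime a ha).1.dvd_mul.mp h).resolve_right (hH.2 a (hprime a ha).1 ha)
  have hHne : H ≠ ⊥ := fun h => by
    have := hdH p (Or.inl rfl)
    rw [h, Subgroup.card_bot, Nat.dvd_one] at this
    exact hp.one_lt.ne' this
  obtain ⟨s, hs, hsH, V, hVH, hV1, hVp, hVc, hHV⟩ := exists_abelian_normal_pgroup H hHne
  have hsπ : s ∈ ({p, q, r} : Set ℕ) := hH.1 s hs hsH
  set π' : Set ℕ := ({p, q, r} : Set ℕ) \ {s} with hπ'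
  obtain ⟨K, hK⟩ := CfsgLib.Solvable.exists_isPiHall (G := H) π'
  have hKne : K ≠ ⊥ := by
    obtain ⟨b, hb, hbs⟩ : ∃ b ∈ ({p, q, r} : Set ℕ), b ≠ s := by
      by_cases h : p = s
      · exact ⟨q, Or.inr (Or.inl rfl), h ▸ Ne.symm hpq⟩
      · exact ⟨p, Or.inl rfl, h⟩
    intro h
    have h2 := hK.2 b (hprime b hb).1 ⟨hb, hbs⟩
    rw [h, Subgroup.index_bot] at h2
    exact h2 (hdH b hb)
  set K' := K.map H.subtype with hK'
  have hK'ne : K' ≠ ⊥ := by
    rwa [hK', Ne, Subgroup.map_eq_bot_iff_of_injective _ H.subtype_injective]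
  have hK'c : Nat.card K' = Nat.card K := Subgroup.card_map_of_injective H.subtype_injective
  have hdK : ∀ b, b.Prime → b ∣ Nat.card K' → b ∈ π' := fun b hb h => hK.1 b hb (hK'c ▸ h)
  have hfpf := fpf_of_no_adjacent hs hVp (A := K') fun b hb h =>
    ⟨(hdK b hb h).2, hno s hsπ b (hdK b hb h).1 (Ne.symm (hdK b hb h).2)⟩
  have hK'V : K' ≤ Subgroup.normalizer (V : Set G) := (Subgroup.map_subtype_le K).trans hHV
  -- an abelian normal subgroup of `K'`
  have : Group.IsSolvable K' :=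
    Group.isSolvable_of_isSolvable_injective (f := K'.subtype) K'.subtype_injective
  obtain ⟨a, ha, haK, W, hWK, hW1, hWp, hWc, hKW⟩ := exists_abelian_normal_pgroup K' hK'ne
  have := Fact.mk ha
  obtain ⟨b, hb, hba, hbK⟩ : ∃ b, b.Prime ∧ b ≠ a ∧ b ∣ Nat.card K' := by
    have hall : ∀ b ∈ π', b ∣ Nat.card K' := fun b hb => by
      have h := hdH b hb.1
      rw [← Subgroup.card_mul_index K] at h
      rw [hK'c]
      exact ((hprime b hb.1).1.dvd_mul.mp h).resolve_right (hK.2 b (hprime b hb.1).1 hb)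
    have h3 : ∃ b ∈ π', b ≠ a := by
      by_contra h
      push Not at h
      have hp' : p ≠ s → p = a := fun e => h p ⟨Or.inl rfl, e⟩
      have hq' : q ≠ s → q = a := fun e => h q ⟨Or.inr (Or.inl rfl), e⟩
      have hr' : r ≠ s → r = a := fun e => h r ⟨Or.inr (Or.inr rfl), e⟩
      by_cases e1 : p = s
      · exact hqr ((hq' (e1 ▸ Ne.symm hpq)).trans (hr' (e1 ▸ Ne.symm hpr)).symm)
      · by_cases e2 : q = s
        · exact hpr ((hp' e1).trans (hr' (e2 ▸ Ne.symm hqr)).symm)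
        · exact hpq ((hp' e1).trans (hq' e2).symm)
    obtain ⟨b, hb, hba⟩ := h3
    exact ⟨b, (hprime b hb.1).1, hba, hall b hb⟩
  have := Fact.mk hb
  have hWcyc : IsCyclic W := CfsgLib.Frobenius.isCyclic_of_commutative_fpf hV1
    (hWK.trans hK'V) fun x hx => hfpf x (hWK hx)
  obtain ⟨k, hk⟩ := IsPGroup.iff_card.mp hWp
  have hk0 : k ≠ 0 := fun h => hW1 (Subgroup.card_eq_one.mp (by rw [hk, h, pow_zero]))
  obtain ⟨w, hw⟩ := exists_prime_orderOf_dvd_card' (G := W) a (hk ▸ dvd_pow_self a hk0)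
  obtain ⟨x, hx⟩ := exists_prime_orderOf_dvd_card' (G := K') b hbK
  rw [← Subgroup.orderOf_coe] at hw hx
  -- `x` normalises the subgroup of order `a`
  set W1 := Subgroup.zpowers (w : G)
  have hxW : ∀ g ∈ W1, (x : G) * g * (x : G)⁻¹ ∈ W1 := by
    rintro g ⟨i, rfl⟩
    simp only
    rw [← conj_zpow]
    refine zpow_mem ?_ i
    have hmem : (x : G) * w * (x : G)⁻¹ ∈ W := (Subgroup.mem_normalizer_iff.mp (hKW x.2) _).mp w.2
    obtain ⟨c, hc⟩ := IsCyclic.exists_zpow_surjective (G := W)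
    have hcard : Nat.card {g : W // g ^ a = 1} ≤ a := by
      classical
      have := Fintype.ofFinite W
      rw [Nat.card_eq_fintype_card, Fintype.card_subtype]
      exact IsCyclic.card_pow_eq_one_le ha.pos
    have hW1c : Nat.card (Subgroup.zpowers w) = a := by
      rw [Nat.card_zpowers, ← Subgroup.orderOf_coe, hw]
    have hsub : Subgroup.zpowers w = (Subgroup.zpowers w) ∧ ∀ g : W, g ^ a = 1 →
        g ∈ Subgroup.zpowers w := by
      refine ⟨rfl, fun g hg => ?_⟩
      have hss : (Subgroup.zpowers w : Set W) = {g | g ^ a = 1} := by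
        refine Set.eq_of_subset_of_ncard_le ?_ ?_
        · intro y hy
          have h5 := Subgroup.orderOf_dvd_natCard _ hy
          rw [hW1c, orderOf_dvd_iff_pow_eq_one] at h5
          exact h5
        · rw [← Nat.card_coe_set_eq, ← Nat.card_coe_set_eq]
          exact hcard.trans hW1c.ge
      exact (Set.ext_iff.mp hss g).mpr hg
    obtain ⟨j, hj⟩ := hsub.2 ⟨_, hmem⟩ (Subtype.ext (by
      show ((x : G) * w * (x : G)⁻¹) ^ a = 1
      rw [conj_pow, ← hw, pow_orderOf_eq_one]; group))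
    exact ⟨j, congrArg Subtype.val hj⟩
  have hle : Subgroup.zpowers (x : G) ≤ Subgroup.normalizer (W1 : Set G) := by
    rw [Subgroup.zpowers_le, Subgroup.mem_normalizer_iff]
    intro g
    refine ⟨hxW g, fun hg => ?_⟩
    have hinj : ∀ n : ℕ, (x : G) ^ (n + 1) * g * ((x : G) ^ (n + 1))⁻¹ ∈ W1 := by
      intro n
      induction n with
      | zero => simpa using hg
      | succ n ih =>
        have := hxW _ ih
        rwa [show (x : G) * ((x : G) ^ (n + 1) * g * ((x : G) ^ (n + 1))⁻¹) * (x : G)⁻¹ =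
          (x : G) ^ (n + 1 + 1) * g * ((x : G) ^ (n + 1 + 1))⁻¹ by
          rw [pow_succ' _ (n + 1)]; group] at this
    have := hinj (orderOf (x : G) - 1)
    rw [Nat.sub_add_cancel (orderOf_pos _), pow_orderOf_eq_one] at this
    simpa using this
  set B := Subgroup.zpowers (x : G) ⊔ W1
  have hcop : Nat.Coprime (Nat.card (Subgroup.zpowers (x : G))) (Nat.card W1) := by
    rw [Nat.card_zpowers, Nat.card_zpowers, hw, hx]
    exact (Nat.coprime_primes hb ha).mpr hba
  have hBcard : Nat.card B = b * a := by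
    rw [← hx, ← hw, ← Nat.card_zpowers, ← Nat.card_zpowers, ← Nat.card_prod]
    refine (Nat.card_congr (Equiv.ofBijective
      (fun z : Subgroup.zpowers (x : G) × W1 => (⟨(z.1 : G) * z.2,
        mul_mem (le_sup_left (b := W1) z.1.2)
          (le_sup_right (a := Subgroup.zpowers (x : G)) z.2.2)⟩ : B)) ⟨?_, ?_⟩)).symm
    · intro u v huv
      exact Subgroup.mul_injective_of_disjoint (Subgroup.disjoint_of_coprime_natCard hcop)
        (by simpa using congrArg Subtype.val huv)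
    · rintro ⟨y, hy⟩
      have hy' : y ∈ ((Subgroup.zpowers (x : G) : Set G) * (W1 : Set G)) := by
        rw [← Subgroup.coe_mul_of_left_le_normalizer_right _ _ hle]; exact hy
      obtain ⟨u, hu, v, hv, rfl⟩ := Set.mem_mul.mp hy'
      exact ⟨(⟨u, hu⟩, ⟨v, hv⟩), rfl⟩
  have hBK : B ≤ K' := sup_le (Subgroup.zpowers_le.mpr x.2)
    ((Subgroup.zpowers_le.mpr w.2).trans hWK)
  have hBcyc : IsCyclic B := CfsgLib.Frobenius.isCyclic_of_card_mul_fpf hV1
    (hBK.trans hK'V) (fun g hg => hfpf g (hBK hg)) hb ha hBcard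
  obtain ⟨c, hc⟩ := IsCyclic.exists_ofOrder_eq_natCard (α := B)
  rw [hBcard, ← Subgroup.orderOf_coe] at hc
  exact hno b (hdK b hb hbK).1 a (hdK a ha haK).1 hba c hc

end CfsgLib.ThreePrimes
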