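import Mathlib

/-! Frobenius' divisibility theorem and elementary counting of elements by order. -/

namespace CfsgLib.Counting

variable {G : Type*} [Group G]

/-- Coprime decomposition of the solutions of `g ^ (k * q) = 1`. -/
noncomputable def splitEquiv (k q : ℕ) (hcop : Nat.Coprime k q) :
    {g : G // g ^ (k * q) = 1} ≃
      (Σ y : {y : G // y ^ k = 1}, {x : Subgroup.centralizer ({y.1} : Set G) // x ^ q = 1}) := by
  refine (Equiv.ofBijective
    (fun t => (⟨t.1.1 * (t.2.1 : G), by
      have hc : Commute t.1.1 (t.2.1 : G) :=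
        (Subgroup.mem_centralizer_singleton_iff.mp t.2.1.2).symm
      rw [hc.mul_pow, pow_mul, t.1.2, one_pow, one_mul, mul_comm k q, pow_mul]
      have : (t.2.1 : G) ^ q = 1 := by exact_mod_cast congrArg Subtype.val t.2.2
      rw [this, one_pow]⟩ : {g : G // g ^ (k * q) = 1})) ⟨?_, ?_⟩).symm
  · rintro ⟨⟨y, hy⟩, ⟨x, hx⟩, hx'⟩ ⟨⟨y', hy'⟩, ⟨x', hx''⟩, hx'''⟩ h
    simp only [Subtype.mk.injEq] at h
    have h1 : x ^ q = 1 := by simpa using congrArg Subtype.val hx'
    have h2 : x' ^ q = 1 := by simpa using congrArg Subtype.val hx'''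
    have c1 : Commute y x := (Subgroup.mem_centralizer_singleton_iff.mp hx).symm
    have c2 : Commute y' x' := (Subgroup.mem_centralizer_singleton_iff.mp hx'').symm
    have key : ∀ {a b : G}, Commute a b → a ^ k = 1 → b ^ q = 1 →
        (a * b) ^ ((Nat.chineseRemainder hcop 1 0 : ℕ)) = a := by
      intro a b hab ha hb
      obtain ⟨h1, h2⟩ := (Nat.chineseRemainder hcop 1 0).2
      rw [hab.mul_pow, (pow_eq_pow_mod _ ha), show (Nat.chineseRemainder hcop 1 0 : ℕ) % k = 1 % k from h1,
        ← pow_eq_pow_mod _ ha, pow_one, pow_eq_pow_mod _ hb,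
        show (Nat.chineseRemainder hcop 1 0 : ℕ) % q = 0 % q from h2]
      simp
    have e : y = y' := by rw [← key c1 hy h1, ← key c2 hy' h2, h]
    subst e
    have e' : x = x' := mul_left_cancel h
    subst e'
    rfl
  · rintro ⟨g, hg⟩
    set e := Nat.chineseRemainder hcop 1 0
    set f := Nat.chineseRemainder hcop 0 1
    have hfk : k ∣ (f : ℕ) := Nat.modEq_zero_iff_dvd.mp f.2.1
    have heq : q ∣ (e : ℕ) := Nat.modEq_zero_iff_dvd.mp e.2.2
    have hy : (g ^ (e : ℕ)) ^ k = 1 := by
      obtain ⟨c, hc⟩ := heq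
      rw [← pow_mul, hc, show q * c * k = (k * q) * c by ring, pow_mul, hg, one_pow]
    have hx : (g ^ (f : ℕ)) ^ q = 1 := by
      obtain ⟨c, hc⟩ := hfk
      rw [← pow_mul, hc, show k * c * q = (k * q) * c by ring, pow_mul, hg, one_pow]
    refine ⟨⟨⟨g ^ (e : ℕ), hy⟩, ⟨g ^ (f : ℕ),
      Subgroup.mem_centralizer_singleton_iff.mpr (Commute.pow_pow (Commute.refl g) _ _)⟩,
      Subtype.ext (by simpa using hx)⟩, ?_⟩
    apply Subtype.ext
    show g ^ (e : ℕ) * g ^ (f : ℕ) = g
    have h1 : (e : ℕ) + f ≡ 1 [MOD k * q] := by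
      rw [← Nat.modEq_and_modEq_iff_modEq_mul hcop]
      exact ⟨by simpa using e.2.1.add f.2.1, by simpa using e.2.2.add f.2.2⟩
    rw [← pow_add]
    conv_rhs => rw [← pow_one g]
    exact pow_eq_pow_iff_modEq.mpr (h1.of_dvd (orderOf_dvd_of_pow_eq_one hg))

theorem splitEquiv_fst_mul (k q : ℕ) (hcop : Nat.Coprime k q) (g : {g : G // g ^ (k * q) = 1}) :
    (splitEquiv k q hcop g).1.1 * ((splitEquiv k q hcop g).2.1 : G) = g.1 :=
  congrArg Subtype.val ((splitEquiv k q hcop).symm_apply_apply g)

variable [Finite G]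

/-- A sum over a conjugation invariant set is divisible by `gcd d |G|` as soon as the summand at
`y` is divisible by `gcd d |C(y)|`. -/
theorem gcd_dvd_sum_conjInvariant [Fintype G] (d : ℕ) (f : G → ℕ)
    (hf : ∀ g y : G, f (g * y * g⁻¹) = f y)
    (hdiv : ∀ y : G, Nat.gcd d (Nat.card (Subgroup.centralizer ({y} : Set G))) ∣ f y) :
    Nat.gcd d (Nat.card G) ∣ ∑ y, f y := by
  classical
  rw [← Finset.sum_fiberwise Finset.univ ConjClasses.mk f]
  refine Finset.dvd_sum fun c _ => ?_
  obtain ⟨a, rfl⟩ := ConjClasses.mk_surjective c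
  have hfib : ∀ y ∈ Finset.univ.filter (fun y : G => ConjClasses.mk y = ConjClasses.mk a), f y = f a := by
    intro y hy
    have h := (Finset.mem_filter.mp hy).2
    obtain ⟨g, hg⟩ := isConj_iff.mp (ConjClasses.mk_eq_mk_iff_isConj.mp h)
    rw [← hf g y, hg]
  rw [Finset.sum_congr rfl hfib, Finset.sum_const, smul_eq_mul]
  have hcard : (Finset.univ.filter (fun y : G => ConjClasses.mk y = ConjClasses.mk a)).card =
      (Subgroup.centralizer ({a} : Set G)).index := by
    have h1 : (ConjClasses.mk a).carrier.ncard = (Subgroup.centralizer ({a} : Set G)).index := by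
      rw [← ConjAct.orbit_eq_carrier_conjClasses, ← MulAction.index_stabilizer,
        ConjAct.stabilizer_eq_centralizer]
      rfl
    rw [← h1, Set.ncard_eq_toFinset_card']
    congr 1
    ext y
    simp [ConjClasses.carrier_eq_preimage_mk]
  rw [hcard]
  calc Nat.gcd d (Nat.card G)
      = Nat.gcd d ((Subgroup.centralizer ({a} : Set G)).index *
          Nat.card (Subgroup.centralizer ({a} : Set G))) := by rw [Subgroup.index_mul_card]
    _ ∣ Nat.gcd d (Subgroup.centralizer ({a} : Set G)).index *
          Nat.gcd d (Nat.card (Subgroup.centralizer ({a} : Set G))) :=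
        Nat.gcd_mul_right_dvd_mul_gcd _ _ _
    _ ∣ _ := Nat.mul_dvd_mul (Nat.gcd_dvd_right _ _) (hdiv a)

/-- The number of elements of order `n` is a multiple of `φ n`. -/
theorem totient_dvd_card_orderOf (n : ℕ) :
    Nat.totient n ∣ Nat.card {g : G // orderOf g = n} := by
  classical
  have := Fintype.ofFinite G
  rw [Nat.card_eq_fintype_card, Fintype.card_subtype]
  rw [Finset.card_eq_sum_ones, ← Finset.sum_fiberwise (Finset.univ.filter fun g : G => orderOf g = n)
      Subgroup.zpowers (fun _ => 1) ]
  refine Finset.dvd_sum fun C _ => ?_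
  simp only [Finset.sum_const, smul_eq_mul, mul_one]
  rcases Finset.eq_empty_or_nonempty
    ((Finset.univ.filter fun g : G => orderOf g = n).filter fun g => Subgroup.zpowers g = C)
    with h | ⟨g, hg⟩
  · simp [h]
  · simp only [Finset.mem_filter, Finset.mem_univ, true_and] at hg
    obtain ⟨hgn, rfl⟩ := hg
    have hn : n = Fintype.card (Subgroup.zpowers g) := by rw [Fintype.card_zpowers, hgn]
    have h2 := IsCyclic.card_orderOf_eq_totient (α := Subgroup.zpowers g) (d := n) (hn ▸ dvd_refl _)
    refine dvd_of_eq ?_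
    rw [← h2]
    refine Finset.card_bij (fun x _ => (x : G)) ?_ ?_ ?_
    · intro x hx
      simp only [Finset.mem_filter, Finset.mem_univ, true_and] at hx ⊢
      have hx' : orderOf (x : G) = n := by rw [Subgroup.orderOf_coe]; exact hx
      refine ⟨hx', Subgroup.eq_of_le_of_card_ge (Subgroup.zpowers_le.mpr x.2) ?_⟩
      rw [Nat.card_zpowers, Nat.card_zpowers, hx', hgn]
    · intro x _ y _ h; exact Subtype.ext h
    · intro y hy
      simp only [Finset.mem_filter, Finset.mem_univ, true_and] at hy
      refine ⟨⟨y, hy.2 ▸ Subgroup.mem_zpowers y⟩, ?_, rfl⟩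
      simp only [Finset.mem_filter, Finset.mem_univ, true_and]
      rw [← Subgroup.orderOf_coe]; exact hy.1

omit [Finite G] in
theorem card_pow_eq_one_of_gcd (m : ℕ) :
    Nat.card {g : G // g ^ m = 1} = Nat.card {g : G // g ^ Nat.gcd m (Nat.card G) = 1} :=
  Nat.card_congr (Equiv.subtypeEquivRight fun g =>
    ⟨fun h => pow_gcd_eq_one.mpr ⟨h, pow_card_eq_one'⟩, fun h => by
      obtain ⟨c, hc⟩ := Nat.gcd_dvd_left m (Nat.card G)
      rw [hc, pow_mul, h, one_pow]⟩)

omit [Finite G] in
theorem card_centralizer_solutions_conj (q : ℕ) (g y : G) :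
    Nat.card {x : Subgroup.centralizer ({g * y * g⁻¹} : Set G) // x ^ q = 1} =
      Nat.card {x : Subgroup.centralizer ({y} : Set G) // x ^ q = 1} := by
  refine Nat.card_congr ⟨fun x => ⟨⟨g⁻¹ * x.1.1 * g, ?_⟩, ?_⟩,
    fun x => ⟨⟨g * x.1.1 * g⁻¹, ?_⟩, ?_⟩, ?_, ?_⟩
  · have h := Subgroup.mem_centralizer_singleton_iff.mp x.1.2
    rw [Subgroup.mem_centralizer_singleton_iff]
    calc g⁻¹ * x.1.1 * g * y = g⁻¹ * (x.1.1 * (g * y * g⁻¹)) * g := by group
      _ = g⁻¹ * (g * y * g⁻¹ * x.1.1) * g := by rw [h]
      _ = y * (g⁻¹ * x.1.1 * g) := by group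
  · apply Subtype.ext
    have := congrArg Subtype.val x.2
    simp only [SubgroupClass.coe_pow, OneMemClass.coe_one] at this ⊢
    simpa using (conj_pow (a := g⁻¹) (b := x.1.1) (i := q)).trans (by rw [this]; group)
  · have h := Subgroup.mem_centralizer_singleton_iff.mp x.1.2
    rw [Subgroup.mem_centralizer_singleton_iff]
    calc g * x.1.1 * g⁻¹ * (g * y * g⁻¹) = g * (x.1.1 * y) * g⁻¹ := by group
      _ = g * (y * x.1.1) * g⁻¹ := by rw [h]
      _ = g * y * g⁻¹ * (g * x.1.1 * g⁻¹) := by group
  · apply Subtype.ext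
    have := congrArg Subtype.val x.2
    simp only [SubgroupClass.coe_pow, OneMemClass.coe_one] at this ⊢
    rw [conj_pow, this]; group
  · intro x; ext; simp only; group
  · intro x; ext; simp only; group

end CfsgLib.Counting

namespace CfsgLib.Counting

universe u

theorem card_split {G : Type u} [Group G] [Fintype G] [DecidableEq G]
    (k q : ℕ) (hcop : Nat.Coprime k q) :
    Nat.card {g : G // g ^ (k * q) = 1} = ∑ y : G, if y ^ k = 1 then
      Nat.card {x : Subgroup.centralizer ({y} : Set G) // x ^ q = 1} else 0 := by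
  classical
  rw [Nat.card_congr (splitEquiv k q hcop), Nat.card_sigma]
  exact (Finset.sum_subtype _ (p := fun y : G => y ^ k = 1) (by simp) (fun y =>
      Nat.card {x : Subgroup.centralizer ({y} : Set G) // x ^ q = 1})).symm.trans
    (Finset.sum_filter _ _)

/-- Frobenius' theorem for prime powers. -/
theorem frobenius_prime_pow {G : Type u} [Group G] [Finite G] {p : ℕ} (hp : p.Prime) (b : ℕ) :
    Nat.gcd (p ^ b) (Nat.card G) ∣ Nat.card {g : G // g ^ p ^ b = 1} := by
  induction hn : Nat.card G using Nat.strong_induction_on generalizing G b with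
  | _ n IH =>
  subst hn
  classical
  have := Fintype.ofFinite G
  set e := (Nat.card G).factorization p with he
  have hpe : p ^ e ∣ Nat.card G := Nat.ordProj_dvd _ _
  -- the top case
  have top : p ^ e ∣ Nat.card {g : G // g ^ p ^ e = 1} := by
    set k := Nat.card G / p ^ e
    have hk : Nat.Coprime k (p ^ e) :=
      ((Nat.coprime_ordCompl hp Nat.card_pos.ne').pow_left e).symm
    have hprod : k * p ^ e = Nat.card G := Nat.div_mul_cancel hpe
    have hall : Nat.card {g : G // g ^ (k * p ^ e) = 1} = Nat.card G := by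
      rw [hprod]; exact Nat.card_congr (Equiv.subtypeUnivEquiv fun g => pow_card_eq_one')
    rw [card_split k (p ^ e) hk] at hall
    set F : G → ℕ := fun y => if y ^ k = 1 then
      Nat.card {x : Subgroup.centralizer ({y} : Set G) // x ^ p ^ e = 1} else 0
    set F' : G → ℕ := fun y => if y ∈ Subgroup.center G then 0 else F y
    have hconjk : ∀ g y : G, (g * y * g⁻¹) ^ k = 1 ↔ y ^ k = 1 := by
      intro g y; rw [conj_pow, conj_eq_one_iff]
    have hF' : Nat.gcd (p ^ e) (Nat.card G) ∣ ∑ y, F' y := by
      refine gcd_dvd_sum_conjInvariant _ F' (fun g y => ?_) (fun y => ?_)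
      · simp only [F', F, hconjk, card_centralizer_solutions_conj]
        have : g * y * g⁻¹ ∈ Subgroup.center G ↔ y ∈ Subgroup.center G := by
          constructor
          · intro h
            have := (inferInstance : (Subgroup.center G).Normal).conj_mem _ h g⁻¹
            simpa [mul_assoc] using this
          · intro h; exact (inferInstance : (Subgroup.center G).Normal).conj_mem _ h g
        simp only [this]
      · simp only [F', F]
        split
        · exact dvd_zero _
        next hy =>
          split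
          · apply IH _ ?_ e rfl
            refine lt_of_le_of_ne (Subgroup.card_le_card_group _) fun h => hy ?_
            have htop := Subgroup.eq_top_of_card_eq _ h
            rw [Subgroup.mem_center_iff]
            intro x
            exact Subgroup.mem_centralizer_singleton_iff.mp (htop ▸ Subgroup.mem_top x)
          · exact dvd_zero _
    rw [Nat.gcd_eq_left hpe] at hF'
    have hsplit : ∑ y, F y = ∑ y, F' y +
        (Finset.univ.filter fun y : G => y ∈ Subgroup.center G ∧ y ^ k = 1).card *
          Nat.card {g : G // g ^ p ^ e = 1} := by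
      rw [← smul_eq_mul, ← Finset.sum_const, Finset.sum_filter, ← Finset.sum_add_distrib]
      refine Finset.sum_congr rfl fun y _ => ?_
      simp only [F', F]
      by_cases hy : y ∈ Subgroup.center G
      · by_cases hyk : y ^ k = 1
        · simp only [hy, hyk, and_self, if_true, zero_add]
          have hC : Subgroup.centralizer ({y} : Set G) = ⊤ := by
            rw [eq_top_iff]; intro x _
            exact Subgroup.mem_centralizer_singleton_iff.mpr (Subgroup.mem_center_iff.mp hy x)
          rw [hC]
          refine Nat.card_congr (Equiv.subtypeEquiv Subgroup.topEquiv.toEquiv fun x => ?_)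
          simp [Subtype.ext_iff]
        · simp [hy, hyk]
      · simp [hy]
    have h1 : p ^ e ∣ ∑ y, F y := by rw [show ∑ y, F y = Nat.card G from hall]; exact hpe
    rw [hsplit, Nat.dvd_add_right hF'] at h1
    refine (Nat.Coprime.dvd_mul_left ?_).mp h1
    -- the number of central p'-elements is prime to p
    set Z : Subgroup G :=
      { carrier := {y | y ∈ Subgroup.center G ∧ y ^ k = 1}
        one_mem' := ⟨one_mem _, one_pow k⟩
        mul_mem' := fun {a b} ha hb => ⟨mul_mem ha.1 hb.1, by
          rw [Commute.mul_pow ((Subgroup.mem_center_iff.mp hb.1) a), ha.2, hb.2, one_mul]⟩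
        inv_mem' := fun {a} ha => ⟨inv_mem ha.1, by rw [inv_pow, ha.2, inv_one]⟩ }
    have hZ : (Finset.univ.filter fun y : G => y ∈ Subgroup.center G ∧ y ^ k = 1).card =
        Nat.card Z := by
      rw [← Fintype.card_subtype, ← Nat.card_eq_fintype_card]; rfl
    rw [hZ]
    refine Nat.Coprime.pow_left e ((Nat.Prime.coprime_iff_not_dvd hp).mpr fun hd => ?_)
    have := Fact.mk hp
    obtain ⟨z, hz⟩ := exists_prime_orderOf_dvd_card' p hd
    have hzk : p ∣ k := hz ▸ orderOf_dvd_of_pow_eq_one (Subtype.ext (by simpa using z.2.2))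
    exact (Nat.Prime.coprime_iff_not_dvd hp).mp (Nat.coprime_ordCompl hp Nat.card_pos.ne') hzk
  -- descending
  rcases le_total e b with hb | hb
  · have hg : Nat.gcd (p ^ b) (Nat.card G) = p ^ e := by
      obtain ⟨j, _, hj⟩ := (Nat.dvd_prime_pow hp).mp (Nat.gcd_dvd_left (p ^ b) (Nat.card G))
      have h1 : p ^ e ∣ p ^ j := hj ▸ Nat.dvd_gcd (pow_dvd_pow p hb) hpe
      have h2 : j ≤ e := (hp.pow_dvd_iff_le_factorization Nat.card_pos.ne').mp
        (hj ▸ Nat.gcd_dvd_right _ _)
      rw [hj]
      exact Nat.dvd_antisymm (pow_dvd_pow p h2) h1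
    rw [hg, card_pow_eq_one_of_gcd, hg]
    exact top
  · rw [Nat.gcd_eq_left ((pow_dvd_pow p hb).trans hpe)]
    clear IH
    induction hb using Nat.decreasingInduction with
    | self => exact top
    | of_succ j hj ih =>
      have hsum : Nat.card {g : G // g ^ p ^ (j + 1) = 1} =
          Nat.card {g : G // g ^ p ^ j = 1} + Nat.card {g : G // orderOf g = p ^ (j + 1)} := by
        simp only [Nat.card_eq_fintype_card, Fintype.card_subtype]
        rw [← Finset.card_union_of_disjoint]
        · congr 1
          ext g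
          simp only [Finset.mem_union, Finset.mem_filter, Finset.mem_univ, true_and,
            ← orderOf_dvd_iff_pow_eq_one]
          constructor
          · intro h
            obtain ⟨i, hi, hgi⟩ := (Nat.dvd_prime_pow hp).mp h
            rcases Nat.lt_or_eq_of_le hi with hi | hi
            · exact Or.inl (hgi ▸ pow_dvd_pow p (Nat.lt_succ_iff.mp hi))
            · exact Or.inr (hi ▸ hgi)
          · rintro (h | h)
            · exact h.trans (pow_dvd_pow p j.le_succ)
            · exact h ▸ dvd_rfl
        · rw [Finset.disjoint_filter]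
          intro g _ h h'
          rw [← orderOf_dvd_iff_pow_eq_one, h'] at h
          exact absurd ((Nat.pow_dvd_pow_iff_le_right hp.one_lt).mp h) (by omega)
      have h1 : p ^ j ∣ Nat.card {g : G // g ^ p ^ (j + 1) = 1} :=
        (pow_dvd_pow p j.le_succ).trans ih
      have h2 : p ^ j ∣ Nat.card {g : G // orderOf g = p ^ (j + 1)} :=
        (Dvd.intro (p - 1) (Nat.totient_prime_pow_succ hp j).symm).trans
          (totient_dvd_card_orderOf _)
      rw [hsum] at h1
      exact (Nat.dvd_add_left h2).mp h1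

/-- **Frobenius' theorem**: `gcd m |G|` divides the number of solutions of `g ^ m = 1`. -/
theorem frobenius_dvd {G : Type u} [Group G] [Finite G] (m : ℕ) :
    Nat.gcd m (Nat.card G) ∣ Nat.card {g : G // g ^ m = 1} := by
  rw [card_pow_eq_one_of_gcd]
  set d := Nat.gcd m (Nat.card G)
  have hd : d ∣ Nat.card G := Nat.gcd_dvd_right _ _
  have hd0 : d ≠ 0 := ne_zero_of_dvd_ne_zero Nat.card_pos.ne' hd
  classical
  have := Fintype.ofFinite G
  rw [Nat.dvd_iff_prime_pow_dvd_dvd]
  intro p j hp hj
  set b := d.factorization p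
  have hb : p ^ b ∣ d := Nat.ordProj_dvd _ _
  refine (pow_dvd_pow p ((hp.pow_dvd_iff_le_factorization hd0).mp hj)).trans ?_
  have hk : Nat.Coprime (d / p ^ b) (p ^ b) :=
    ((Nat.coprime_ordCompl hp hd0).pow_left b).symm
  show p ^ b ∣ Nat.card {g : G // g ^ d = 1}
  conv_rhs => rw [← Nat.div_mul_cancel hb, card_split _ _ hk]
  have h := gcd_dvd_sum_conjInvariant (p ^ b) (fun y : G => if y ^ (d / p ^ b) = 1 then
      Nat.card {x : Subgroup.centralizer ({y} : Set G) // x ^ p ^ b = 1} else 0)
    (fun g y => by simp only [conj_pow, conj_eq_one_iff, card_centralizer_solutions_conj])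
    (fun y => by
      split
      · exact frobenius_prime_pow hp b
      · exact dvd_zero _)
  rwa [Nat.gcd_eq_left (hb.trans hd)] at h

/-- Groups with the same number of elements of every order: an order preserving bijection. -/
theorem exists_orderOf_equiv {G H : Type*} [Group G] [Finite G] [Group H] [Finite H]
    (hT : ∀ m : ℕ, Nat.card {g : G // orderOf g = m} = Nat.card {h : H // orderOf h = m}) :
    ∃ e : G ≃ H, ∀ g, orderOf (e g) = orderOf g :=
  ⟨Equiv.ofFiberEquiv fun m => Classical.choice (Finite.card_eq.mp (hT m)),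
    Equiv.ofFiberEquiv_map _⟩

theorem card_pow_eq_one_congr {G H : Type*} [Group G] [Finite G] [Group H] [Finite H]
    (hT : ∀ m : ℕ, Nat.card {g : G // orderOf g = m} = Nat.card {h : H // orderOf h = m}) (a : ℕ) :
    Nat.card {g : G // g ^ a = 1} = Nat.card {h : H // h ^ a = 1} := by
  obtain ⟨e, he⟩ := exists_orderOf_equiv hT
  exact Nat.card_congr (e.subtypeEquiv fun g => by
    rw [← orderOf_dvd_iff_pow_eq_one, ← orderOf_dvd_iff_pow_eq_one, he])

theorem card_congr_of_orderType {G H : Type*} [Group G] [Finite G] [Group H] [Finite H]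
    (hT : ∀ m : ℕ, Nat.card {g : G // orderOf g = m} = Nat.card {h : H // orderOf h = m}) :
    Nat.card G = Nat.card H :=
  Nat.card_congr (exists_orderOf_equiv hT).choose

/-- If `g ^ a = 1` has no more solutions than a subgroup `K` of order `a` has elements, then `K`
consists exactly of the solutions and is characteristic. -/
theorem eq_solutions_of_card {G : Type*} [Group G] [Finite G] (K : Subgroup G) (a : ℕ)
    (hK : Nat.card K = a) (hcnt : Nat.card {g : G // g ^ a = 1} ≤ a) :
    (∀ g : G, g ∈ K ↔ g ^ a = 1) ∧ K.Characteristic := by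
  have hsub : (K : Set G) ⊆ {g | g ^ a = 1} := fun g hg => by
    have := orderOf_dvd_natCard (⟨g, hg⟩ : K)
    rw [hK, orderOf_dvd_iff_pow_eq_one] at this
    exact congrArg Subtype.val this
  have heq : (K : Set G) = {g | g ^ a = 1} := by
    refine Set.eq_of_subset_of_ncard_le hsub ?_
    rw [← Nat.card_coe_set_eq, ← Nat.card_coe_set_eq]
    exact hcnt.trans hK.ge
  have hiff : ∀ g : G, g ∈ K ↔ g ^ a = 1 := fun g => Set.ext_iff.mp heq g
  refine ⟨hiff, Subgroup.characteristic_iff_comap_eq.mpr fun φ => ?_⟩
  ext g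
  simp [Subgroup.mem_comap, hiff, ← map_pow]

end CfsgLib.Counting
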