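import Cfsg.Agent.Lib.PGroup.OmegaRankTwo
import Cfsg.Agent.Lib.Counting.Frobenius
import Mathlib

/-!
Kulakoff: for `p` odd and a noncyclic Sylow `p`-subgroup the number of elements of order `p ^ s`,
`s ≥ 2`, is a multiple of `p ^ s`.
-/

set_option autoImplicit false

open Subgroup
open scoped Pointwise

namespace CfsgLib.Counting

section ClassTwo

variable {P : Type*} [Group P]

theorem mul_pow_of_central {x e c : P} (hce : Commute c e) (hcx : Commute c x) (h : e * x = x * e * c)
    (n : ℕ) : (x * e) ^ n = x ^ n * e ^ n * c ^ n.choose 2 := by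
  have h1 : ∀ m : ℕ, e ^ m * x = x * e ^ m * c ^ m := by
    intro m
    induction m with
    | zero => simp
    | succ m ih =>
      rw [pow_succ' e m, mul_assoc e, ih, ← mul_assoc, ← mul_assoc, h, mul_assoc (x * e) c,
        (hce.pow_right m).eq, pow_succ' c m]
      simp only [mul_assoc]
  induction n with
  | zero => simp
  | succ n ih =>
    have hk : Commute (c ^ n.choose 2) (x * e) := (hcx.pow_left _).mul_right (hce.pow_left _)
    rw [pow_succ (x * e), ih, mul_assoc (x ^ n * e ^ n), hk.eq, ← mul_assoc, ← mul_assoc,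
      mul_assoc (x ^ n) (e ^ n) x, h1]
    rw [Nat.choose_succ_succ, Nat.choose_one_right, pow_add c n, pow_succ x n, pow_succ e n]
    simp only [mul_assoc]
    rw [← mul_assoc (c ^ n) e, (hce.pow_left n).eq, mul_assoc e]

variable [Finite P] {p : ℕ} [hp : Fact p.Prime]

/-- Multiplying by an element of a normal elementary subgroup of order `p ^ 2` keeps the `p`-th power. -/
theorem mul_pow_prime (hp2 : p ≠ 2) (hP : IsPGroup p P) {E : Subgroup P} [E.Normal]
    (hE : Cfsg.IsElementaryAbelian p E) (hEc : Nat.card E = p ^ 2) (x : P) {e : P} (he : e ∈ E) :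
    (x * e) ^ p = x ^ p := by
  set Z := Subgroup.center P with hZ
  set f := QuotientGroup.mk' (E ⊓ Z) with hf
  have hbot : E ⊓ Z ≠ ⊥ := by
    have hne : E ≠ ⊥ := fun h => by
      rw [h, card_bot] at hEc
      exact absurd hEc.symm (Nat.one_lt_pow two_ne_zero hp.out.one_lt).ne'
    obtain ⟨z, hz1, hz2, hz3⟩ := CfsgLib.PGroup.exists_central_orderOf_eq hP E hne
    intro h
    have hz : z ∈ E ⊓ Z := ⟨hz1, hz2⟩
    rw [h, mem_bot] at hz
    rw [hz, orderOf_one] at hz3
    exact hp.out.one_lt.ne hz3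
  set c := e⁻¹ * x⁻¹ * e * x with hc
  have hcE : c ∈ E := by
    have h1 := ‹E.Normal›.conj_mem e he x⁻¹
    rw [inv_inv] at h1
    rw [show c = e⁻¹ * (x⁻¹ * e * x) by rw [hc]; group]
    exact mul_mem (inv_mem he) h1
  have hcZ : c ∈ E ⊓ Z := by
    by_contra hnot
    have hEf : E.map f ≠ ⊥ := fun h => hnot (by
      have : f c = 1 := mem_bot.mp (h ▸ mem_map_of_mem f hcE)
      exact (QuotientGroup.eq_one_iff c).mp this)
    obtain ⟨z, hz1, hz2, hz3⟩ := CfsgLib.PGroup.exists_central_orderOf_eq (hP.to_quotient _)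
      (E.map f) hEf
    have hcard : Nat.card (E.map f) ≤ p := by
      obtain ⟨i, hi⟩ := IsPGroup.iff_card.mp (hP.to_subgroup (E ⊓ Z))
      have h1 := Subgroup.card_map_dvd (H := E) f
      have h2 : Nat.card (E.map f) * Nat.card (E ⊓ Z : Subgroup P) = Nat.card E := by
        have h3 := (f.subgroupMap E).ker.card_mul_index
        rw [index_ker, MonoidHom.range_eq_top.mpr (f.subgroupMap_surjective E), card_top] at h3
        rw [← h3, mul_comm]
        congr 1
        have e2 : (f.subgroupMap E).ker = (E ⊓ Z).subgroupOf E := by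
          ext v
          rw [MonoidHom.mem_ker, mem_subgroupOf, Subtype.ext_iff]
          exact QuotientGroup.eq_one_iff (v : P)
        rw [e2]
        exact (Nat.card_congr (subgroupOfEquivOfLe inf_le_left).toEquiv).symm
      have hi1 : i ≠ 0 := fun h => hbot (Subgroup.card_eq_one.mp (by rw [hi, h, pow_zero]))
      rw [hi, hEc] at h2
      have h4 : Nat.card (E.map f) * p ≤ p ^ 2 := h2 ▸ Nat.mul_le_mul_left _ (Nat.le_self_pow hi1 p)
      rw [pow_two] at h4
      exact Nat.le_of_mul_le_mul_right h4 hp.out.pos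
    have heq : zpowers z = E.map f := eq_of_le_of_card_ge (zpowers_le.mpr hz1)
      (by rwa [Nat.card_zpowers, hz3])
    have hec : f e ∈ Subgroup.center (P ⧸ (E ⊓ Z)) := by
      have h1 : f e ∈ zpowers z := heq ▸ mem_map_of_mem f he
      exact (zpowers_le.mpr hz2) h1
    refine hnot ((QuotientGroup.eq_one_iff c).mp ?_)
    show f c = 1
    rw [hc, map_mul, map_mul, map_mul, map_inv, map_inv, mul_assoc _ (f e),
      ← (Subgroup.mem_center_iff.mp hec (f x))]
    group
  have hcz := Subgroup.mem_center_iff.mp hcZ.2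
  have hce : Commute c e := (hcz e).symm
  have hcx : Commute c x := (hcz x).symm
  rw [mul_pow_of_central hce hcx (by rw [hc]; group) p, hE.2 e he, mul_one]
  obtain ⟨j, hj⟩ := hp.out.dvd_choose_self (k := 2) (by norm_num)
    (lt_of_le_of_ne hp.out.two_le (Ne.symm hp2))
  rw [hj, pow_mul, hE.2 c hcE, one_pow, mul_one]

/-- Kulakoff for `p`-groups. -/
theorem dvd_card_orderOf_pgroup (hp2 : p ≠ 2) (hP : IsPGroup p P) (hnc : ¬ IsCyclic P) {s : ℕ}
    (hs : 1 < s) : p ^ s ∣ Nat.card {x : P // orderOf x = p ^ s} := by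
  classical
  have := Fintype.ofFinite P
  obtain ⟨E, -, hEn, hE, hEc⟩ := CfsgLib.PGroup.exists_normal_elementary_sq hp2 hP ⊤
    (fun h => hnc (isCyclic_of_surjective (Subgroup.topEquiv : (⊤ : Subgroup P) ≃* P).toMonoidHom
      (MulEquiv.surjective _)))
  rw [Nat.card_eq_fintype_card, Fintype.card_subtype, Finset.card_eq_sum_card_image
    (fun x : P => zpowers x ⊔ E)]
  refine Finset.dvd_sum fun U hU => ?_
  obtain ⟨u, hu, rfl⟩ := Finset.mem_image.mp hU
  simp only [Finset.mem_filter, Finset.mem_univ, true_and] at hu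
  set V := zpowers (u ^ p) ⊔ E with hV
  have hpu : orderOf (u ^ p) = p ^ (s - 1) := by
    rw [orderOf_pow_of_dvd hp.out.ne_zero (hu ▸ dvd_pow_self p (by omega : s ≠ 0)), hu]
    conv_lhs => rw [show s = (s - 1) + 1 by omega, pow_succ]
    rw [Nat.mul_div_cancel _ hp.out.pos]
  have hVp : ∀ y ∈ V, y ^ p ^ (s - 1) = 1 := by
    intro y hy
    obtain ⟨v, hv, e, he, rfl⟩ := Subgroup.mem_sup_of_normal_right.mp hy
    have h1 : v ^ p ^ (s - 1) = 1 :=
      orderOf_dvd_iff_pow_eq_one.mp (hpu ▸ (Nat.card_zpowers (u ^ p) ▸ (zpowers (u ^ p)).orderOf_dvd_natCard hv))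
    obtain ⟨d, hd⟩ := Nat.exists_eq_succ_of_ne_zero (by omega : s - 1 ≠ 0)
    rw [hd] at h1 ⊢
    rw [pow_succ', pow_mul, mul_pow_prime hp2 hP hE hEc v he, ← pow_mul, ← pow_succ', h1]
  have key : ∀ y ∈ zpowers u ⊔ E, y ∉ V → orderOf y = p ^ s ∧ zpowers y ⊔ E = zpowers u ⊔ E := by
    intro y hy hyV
    obtain ⟨v, hv, e, he, rfl⟩ := Subgroup.mem_sup_of_normal_right.mp hy
    obtain ⟨k, rfl⟩ := mem_zpowers_iff.mp hv
    have hk : ¬ (p : ℤ) ∣ k := by
      rintro ⟨j, rfl⟩
      exact hyV (mul_mem_sup ⟨j, by simp [zpow_mul, zpow_natCast]⟩ he)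
    have hgen : u ∈ zpowers (u ^ k) := by
      obtain ⟨a, b, hab⟩ := ((Nat.prime_iff_prime_int.mp hp.out).coprime_iff_not_dvd.mpr hk).pow_left
        (m := s)
      refine ⟨b, ?_⟩
      have h2 : u = u ^ (a * (p : ℤ) ^ s + b * k) := by rw [hab, zpow_one]
      conv_rhs => rw [h2, zpow_add, mul_comm a, zpow_mul, ← Nat.cast_pow, zpow_natCast, ← hu,
        pow_orderOf_eq_one, one_zpow, one_mul, mul_comm, zpow_mul]
    constructor
    · have h1 : (u ^ k * e) ^ p = (u ^ k) ^ p := mul_pow_prime hp2 hP hE hEc _ he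
      have h2 : orderOf (u ^ k) = p ^ s := by
        refine Nat.dvd_antisymm (hu ▸ orderOf_dvd_of_mem_zpowers (zpow_mem (mem_zpowers u) k)) ?_
        exact hu ▸ orderOf_dvd_of_mem_zpowers hgen
      have h3 : orderOf ((u ^ k * e) ^ p) = p ^ (s - 1) := by
        rw [h1, orderOf_pow_of_dvd hp.out.ne_zero (h2 ▸ dvd_pow_self p (by omega : s ≠ 0)), h2]
        conv_lhs => rw [show s = (s - 1) + 1 by omega, pow_succ]
        rw [Nat.mul_div_cancel _ hp.out.pos]
      obtain ⟨d, hd⟩ := Nat.exists_eq_succ_of_ne_zero (by omega : s - 1 ≠ 0)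
      rw [show s = d + 2 by omega]
      rw [hd] at h3
      refine orderOf_eq_prime_pow (n := d + 1) (fun h => ?_) ?_
      · rw [pow_succ', pow_mul] at h
        have := Nat.le_of_dvd (pow_pos hp.out.pos d) (h3 ▸ orderOf_dvd_of_pow_eq_one h)
        exact absurd this (not_le.mpr (Nat.pow_lt_pow_right hp.out.one_lt (by omega)))
      · rw [pow_succ' p (d + 1), pow_mul]
        exact orderOf_dvd_iff_pow_eq_one.mp h3.dvd
    · refine le_antisymm (sup_le (zpowers_le.mpr (mul_mem_sup hv he)) le_sup_right)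
        (sup_le (zpowers_le.mpr ?_) le_sup_right)
      have h1 : u ^ k ∈ zpowers (u ^ k * e) ⊔ E := by
        have h4 := mul_mem (mem_sup_left (T := E) (mem_zpowers (u ^ k * e)))
          (mem_sup_right (S := zpowers (u ^ k * e)) (inv_mem he))
        simpa using h4
      exact (zpowers_le.mpr h1) hgen
  have hfib : ((Finset.univ.filter fun x : P => orderOf x = p ^ s).filter
      fun x => zpowers x ⊔ E = zpowers u ⊔ E) =
      (Finset.univ.filter fun x => x ∈ zpowers u ⊔ E) \ Finset.univ.filter fun x => x ∈ V := by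
    ext y
    simp only [Finset.mem_filter, Finset.mem_univ, true_and, Finset.mem_sdiff]
    refine ⟨fun ⟨h1, h2⟩ => ⟨h2 ▸ mem_sup_left (mem_zpowers y), fun h => ?_⟩,
      fun ⟨h1, h2⟩ => key y h1 h2⟩
    have h3 := Nat.le_of_dvd (pow_pos hp.out.pos _) (h1 ▸ orderOf_dvd_of_pow_eq_one (hVp y h))
    exact absurd h3 (not_le.mpr (Nat.pow_lt_pow_right hp.out.one_lt (by omega)))
  have hVle : V ≤ zpowers u ⊔ E :=
    sup_le ((zpowers_le.mpr (pow_mem (mem_zpowers u) p)).trans le_sup_left) le_sup_right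
  have hcard : ∀ W : Subgroup P, (Finset.univ.filter fun x => x ∈ W).card = Nat.card W := fun W => by
    rw [← Fintype.card_subtype, Nat.card_eq_fintype_card]
  rw [hfib, Finset.card_sdiff_of_subset (fun y hy => by
    simp only [Finset.mem_filter, Finset.mem_univ, true_and] at hy ⊢; exact hVle hy), hcard, hcard]
  have hdiv : p ^ s ∣ Nat.card V := by
    obtain ⟨i, hi⟩ := IsPGroup.iff_card.mp (hP.to_subgroup V)
    rw [hi]
    refine pow_dvd_pow p ?_
    by_contra hlt
    have h1 : Nat.card V ≤ p ^ (s - 1) := hi ▸ Nat.pow_le_pow_right hp.out.pos (by omega)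
    have h2 : zpowers (u ^ p) = V := eq_of_le_of_card_ge le_sup_left (by rwa [Nat.card_zpowers, hpu])
    have h3 : IsCyclic E := by
      have hle : E ≤ zpowers (u ^ p) := h2 ▸ le_sup_right
      exact isCyclic_of_injective (Subgroup.inclusion hle) (Subgroup.inclusion_injective hle)
    obtain ⟨g, hg⟩ := h3.exists_generator
    have h4 : orderOf (g : P) = p ^ 2 := by
      rw [orderOf_coe, orderOf_eq_card_of_forall_mem_zpowers hg, hEc]
    have h5 := Nat.le_of_dvd hp.out.pos (h4 ▸ orderOf_dvd_of_pow_eq_one (hE.2 g g.2))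
    exact absurd h5 (not_le.mpr (lt_self_pow₀ hp.out.one_lt (by norm_num)))
  exact Nat.dvd_sub (hdiv.trans (card_dvd_of_le hVle)) hdiv

end ClassTwo

variable {G : Type*} [Group G] [Finite G]

/-- The number of cyclic subgroups of a given order, times `φ`. -/
theorem card_orderOf_eq_mul (n : ℕ) :
    Nat.card {x : G // orderOf x = n} =
      Nat.totient n * Nat.card {U : Subgroup G // ∃ x, zpowers x = U ∧ orderOf x = n} := by
  classical
  have := Fintype.ofFinite G
  rw [Nat.card_eq_fintype_card, Fintype.card_subtype, Nat.card_eq_fintype_card, Fintype.card_subtype,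
    Finset.card_eq_sum_card_image (fun x : G => zpowers x)]
  rw [Finset.sum_const_nat (m := Nat.totient n), mul_comm]
  · congr 2
    ext U
    simp [and_comm]
  · intro U hU
    obtain ⟨g, hg, rfl⟩ := Finset.mem_image.mp hU
    simp only [Finset.mem_filter, Finset.mem_univ, true_and] at hg
    have hn : n = Fintype.card (zpowers g) := by rw [Fintype.card_zpowers, hg]
    rw [← IsCyclic.card_orderOf_eq_totient (α := zpowers g) (d := n) (hn ▸ dvd_refl _)]
    refine (Finset.card_bij (fun (x : zpowers g) _ => (x : G)) ?_ ?_ ?_).symm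
    · intro x hx
      simp only [Finset.mem_filter, Finset.mem_univ, true_and] at hx ⊢
      have hx' : orderOf (x : G) = n := by rw [Subgroup.orderOf_coe]; exact hx
      exact ⟨hx', eq_of_le_of_card_ge (zpowers_le.mpr x.2) (by rw [Nat.card_zpowers, Nat.card_zpowers, hx', hg])⟩
    · intro x _ y _ h; exact Subtype.ext h
    · intro y hy
      simp only [Finset.mem_filter, Finset.mem_univ, true_and] at hy
      refine ⟨⟨y, hy.2 ▸ mem_zpowers y⟩, ?_, rfl⟩
      simp only [Finset.mem_filter, Finset.mem_univ, true_and]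
      rw [← Subgroup.orderOf_coe]; exact hy.1

variable {p : ℕ} [hp : Fact p.Prime]

/-- Modulo `p`, only the cyclic subgroups normalized by a Sylow subgroup count. -/
theorem card_cyclic_modEq (P : Sylow p G) (s : ℕ) :
    Nat.card {U : Subgroup G // ∃ x, zpowers x = U ∧ orderOf x = p ^ s} ≡
      Nat.card {U : Subgroup G // (∃ x, zpowers x = U ∧ orderOf x = p ^ s) ∧ U ≤ P ∧
        (P : Subgroup G) ≤ normalizer (U : Set G)} [MOD p] := by
  let X := {U : Subgroup G // ∃ x, zpowers x = U ∧ orderOf x = p ^ s}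
  have hstab : ∀ (g : (P : Subgroup G)) (U : X), ∃ x, zpowers x = MulAut.conj (g : G) • U.1 ∧
      orderOf x = p ^ s := by
    rintro g ⟨U, x, rfl, hx⟩
    refine ⟨MulAut.conj (g : G) x, ?_, by rw [MulEquiv.orderOf_eq, hx]⟩
    show _ = (zpowers x).map (MulAut.conj (g : G)).toMonoidHom
    rw [MonoidHom.map_zpowers]
    rfl
  letI : MulAction (P : Subgroup G) X :=
    { smul := fun g U => ⟨MulAut.conj (g : G) • U.1, hstab g U⟩
      one_smul := fun U => Subtype.ext (show MulAut.conj ((1 : (P : Subgroup G)) : G) • U.1 = U.1 by simp)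
      mul_smul := fun g h U => Subtype.ext (show MulAut.conj ((g * h : (P : Subgroup G)) : G) • U.1 =
        MulAut.conj (g : G) • MulAut.conj (h : G) • U.1 by rw [Subgroup.coe_mul, map_mul, mul_smul]) }
  refine (P.2.card_modEq_card_fixedPoints X).trans (show _ % p = _ % p from congrArg (· % p) ?_)
  have hN : ∀ U : X, U ∈ MulAction.fixedPoints (P : Subgroup G) X →
      (P : Subgroup G) ≤ normalizer (U.1 : Set G) := fun U hU g hg => by
    rw [mem_normalizer_iff_map_conj_eq]
    exact congrArg Subtype.val (hU ⟨g, hg⟩)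
  refine Nat.card_congr
    { toFun := fun U => ⟨U.1.1, U.1.2, ?_, hN U.1 U.2⟩
      invFun := fun U => ⟨⟨U.1, U.2.1⟩, fun g => Subtype.ext
        (mem_normalizer_iff_map_conj_eq.mp (U.2.2.2 g.2))⟩
      left_inv := fun U => rfl
      right_inv := fun U => rfl }
  have hn := hN U.1 U.2
  obtain ⟨x, hxU, hx⟩ := U.1.2
  rw [← hxU] at hn ⊢
  have hp' : IsPGroup p (zpowers x ⊔ P : Subgroup G) := IsPGroup.to_sup_of_normal_left'
    (IsPGroup.of_card (n := s) (by rw [Nat.card_zpowers, hx])) P.2 hn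
  exact (le_sup_left : zpowers x ≤ zpowers x ⊔ P).trans (P.3 hp' le_sup_right).le

theorem card_cyclic_normalized (P : Sylow p G) (s : ℕ) :
    Nat.card {U : Subgroup G // (∃ x, zpowers x = U ∧ orderOf x = p ^ s) ∧ U ≤ P ∧
        (P : Subgroup G) ≤ normalizer (U : Set G)} =
      Nat.card {U : Subgroup (P : Subgroup G) // (∃ x, zpowers x = U ∧ orderOf x = p ^ s) ∧ U.Normal} := by
  refine Nat.card_congr (Equiv.ofBijective (fun U => ⟨U.1.subgroupOf P, ?_, ?_⟩) ⟨?_, ?_⟩)
  · obtain ⟨x, hx, hxo⟩ := U.2.1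
    have hxP : x ∈ (P : Subgroup G) := U.2.2.1 (hx ▸ mem_zpowers x)
    refine ⟨⟨x, hxP⟩, map_injective (subtype_injective _) ?_, by rw [← Subgroup.orderOf_coe, hxo]⟩
    rw [MonoidHom.map_zpowers, subgroupOf_map_subtype, inf_eq_left.mpr U.2.2.1]
    exact hx
  · exact normal_subgroupOf_iff_le_normalizer U.2.2.1 |>.mpr U.2.2.2
  · intro U U' h
    have h1 := congrArg (fun V => (V.1 : Subgroup (P : Subgroup G)).map (P : Subgroup G).subtype) h
    simp only [subgroupOf_map_subtype, inf_eq_left.mpr U.2.2.1, inf_eq_left.mpr U'.2.2.1] at h1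
    exact Subtype.ext h1
  · rintro ⟨V, ⟨x, rfl, hx⟩, hV⟩
    refine ⟨⟨(zpowers x).map (P : Subgroup G).subtype, ⟨x, ?_, by rw [Subgroup.orderOf_coe, hx]⟩,
      map_subtype_le _, ?_⟩, Subtype.ext ?_⟩
    · rw [MonoidHom.map_zpowers]; rfl
    · intro g hg
      exact le_normalizer_map (P : Subgroup G).subtype
          ⟨⟨g, hg⟩, by rw [normalizer_eq_top_iff.mpr hV]; exact mem_top _, rfl⟩
    · show ((zpowers x).map (P : Subgroup G).subtype).subgroupOf P = zpowers x
      exact Subgroup.comap_map_eq_self_of_injective (subtype_injective _) _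

/-- Kulakoff for groups with noncyclic Sylow subgroups. -/
theorem dvd_card_orderOf_of_noncyclic (hp2 : p ≠ 2) (P : Sylow p G) (hP : ¬ IsCyclic (P : Subgroup G))
    {s : ℕ} (hs : 1 < s) : p ^ s ∣ Nat.card {x : G // orderOf x = p ^ s} := by
  set kP := Nat.card {U : Subgroup (P : Subgroup G) // ∃ x, zpowers x = U ∧ orderOf x = p ^ s}
  have htot : Nat.totient (p ^ s) = p ^ (s - 1) * (p - 1) := Nat.totient_prime_pow hp.out (by omega)
  have hps : p ^ s = p ^ (s - 1) * p := by rw [← pow_succ]; congr 1; omega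
  have h1 : p ∣ kP := by
    have h := dvd_card_orderOf_pgroup hp2 P.2 hP hs
    rw [card_orderOf_eq_mul, htot, mul_assoc] at h
    have h2 := Nat.dvd_of_mul_dvd_mul_left (pow_pos hp.out.pos _) ((dvd_of_eq hps.symm).trans h)
    exact (hp.out.dvd_mul.mp h2).resolve_left fun h3 => by
      have := Nat.le_of_dvd (by have := hp.out.two_le; omega) h3
      have := hp.out.two_le
      omega
  obtain ⟨Q⟩ : Nonempty (Sylow p (P : Subgroup G)) := inferInstance
  have hQ : (Q : Subgroup (P : Subgroup G)) = ⊤ :=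
    (Q.is_maximal' (P.2.to_subgroup ⊤) le_top).symm
  have h3 : p ∣ Nat.card {U : Subgroup G // ∃ x, zpowers x = U ∧ orderOf x = p ^ s} := by
    have e1 := card_cyclic_modEq P s
    rw [card_cyclic_normalized P s] at e1
    have e2 := card_cyclic_modEq Q s
    have e3 : Nat.card {U : Subgroup (P : Subgroup G) // (∃ x, zpowers x = U ∧ orderOf x = p ^ s) ∧
        U ≤ Q ∧ (Q : Subgroup (P : Subgroup G)) ≤ normalizer (U : Set (P : Subgroup G))} =
        Nat.card {U : Subgroup (P : Subgroup G) // (∃ x, zpowers x = U ∧ orderOf x = p ^ s) ∧ U.Normal} :=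
      Nat.card_congr (Equiv.subtypeEquivRight fun U => by
        rw [hQ, top_le_iff, normalizer_eq_top_iff]
        exact and_congr_right fun _ => and_iff_right le_top)
    rw [e3] at e2
    exact Nat.modEq_zero_iff_dvd.mp ((e1.trans e2.symm).trans (Nat.modEq_zero_iff_dvd.mpr h1))
  rw [card_orderOf_eq_mul, htot, mul_assoc]
  exact (dvd_of_eq hps).trans (Nat.mul_dvd_mul_left _ (dvd_mul_of_dvd_right h3 _))

end CfsgLib.Counting
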