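import Cfsg.Agent.Lib.Counting.Frobenius
import Cfsg.Agent.Lib.Char.Burnside
import Mathlib

/-!
Groups in which the numbers of elements of each order take few values: elementary congruences.
-/

set_option autoImplicit false

open Subgroup

namespace CfsgLib.OrderValues

variable {G : Type*} [Group G] [Finite G]

/-- The number of elements of order `m`. -/
noncomputable def cnt (G : Type*) [Monoid G] (m : ℕ) : ℕ := Nat.card {g : G // orderOf g = m}

theorem cnt_pos {m : ℕ} (h : ∃ g : G, orderOf g = m) : 0 < cnt G m := by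
  obtain ⟨g, hg⟩ := h
  have : Nonempty {g : G // orderOf g = m} := ⟨⟨g, hg⟩⟩
  exact Nat.card_pos

theorem exists_of_cnt_pos {m : ℕ} (h : 0 < cnt G m) : ∃ g : G, orderOf g = m := by
  obtain ⟨⟨g, hg⟩⟩ := (Nat.card_pos_iff.mp h).1
  exact ⟨g, hg⟩

theorem cnt_one : cnt G 1 = 1 := by
  rw [cnt, Nat.card_eq_one_iff_unique]
  exact ⟨⟨fun a b => Subtype.ext ((orderOf_eq_one_iff.mp a.2).trans (orderOf_eq_one_iff.mp b.2).symm)⟩,
    ⟨⟨1, orderOf_one⟩⟩⟩

theorem exists_of_dvd {m d : ℕ} (hd : d ∣ m) (h : ∃ g : G, orderOf g = m) : ∃ g : G, orderOf g = d := by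
  obtain ⟨g, rfl⟩ := h
  exact ⟨g ^ (orderOf g / d), orderOf_pow_orderOf_div (orderOf_pos g).ne' hd⟩

theorem card_pow_eq_sum {m : ℕ} (hm : m ≠ 0) :
    Nat.card {g : G // g ^ m = 1} = ∑ d ∈ m.divisors, cnt G d := by
  classical
  have := Fintype.ofFinite G
  simp only [cnt, Nat.card_eq_fintype_card, Fintype.card_subtype]
  rw [Finset.card_eq_sum_card_fiberwise (f := fun g : G => orderOf g) (t := m.divisors) fun g hg => by
    rw [Finset.mem_coe, Finset.mem_filter] at hg
    exact Nat.mem_divisors.mpr ⟨orderOf_dvd_of_pow_eq_one hg.2, hm⟩]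
  refine Finset.sum_congr rfl fun d hd => congrArg Finset.card ?_
  ext g
  simp only [Finset.mem_filter, Finset.mem_univ, true_and]
  exact ⟨fun h => h.2, fun h => ⟨orderOf_dvd_iff_pow_eq_one.mp (h ▸ Nat.dvd_of_mem_divisors hd), h⟩⟩

theorem sum_divisors_mul_prime (f : ℕ → ℕ) {m t : ℕ} (hm : m ≠ 0) (ht : t.Prime) (hcop : m.Coprime t) :
    ∑ d ∈ (m * t).divisors, f d = (∑ d ∈ m.divisors, f d) + ∑ d ∈ m.divisors, f (d * t) := by
  classical
  have hdisj : Disjoint m.divisors (m.divisors.image (· * t)) := by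
    rw [Finset.disjoint_left]
    intro d hd hd'
    obtain ⟨e, -, rfl⟩ := Finset.mem_image.mp hd'
    exact ht.not_dvd_one (hcop ▸ Nat.dvd_gcd ((dvd_mul_left t e).trans (Nat.dvd_of_mem_divisors hd)) dvd_rfl)
  have hun : (m * t).divisors = m.divisors ∪ m.divisors.image (· * t) := by
    ext d
    simp only [Nat.mem_divisors, Finset.mem_union, Finset.mem_image]
    constructor
    · rintro ⟨hd, -⟩
      obtain ⟨u, v, hu, hv, rfl⟩ := exists_dvd_and_dvd_of_dvd_mul hd
      rcases (Nat.dvd_prime ht).mp hv with rfl | rfl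
      · exact Or.inl ⟨by simpa using hu, hm⟩
      · exact Or.inr ⟨u, ⟨hu, hm⟩, rfl⟩
    · rintro (⟨hd, -⟩ | ⟨e, ⟨he, -⟩, rfl⟩)
      · exact ⟨hd.trans (dvd_mul_right m t), Nat.mul_ne_zero hm ht.ne_zero⟩
      · exact ⟨Nat.mul_dvd_mul_right he t, Nat.mul_ne_zero hm ht.ne_zero⟩
  rw [hun, Finset.sum_union hdisj, Finset.sum_image fun x _ y _ h => Nat.eq_of_mul_eq_mul_right ht.pos h]

/-- Frobenius' congruence. -/
theorem dvd_sum_cnt {m : ℕ} (hm : m ∣ Nat.card G) : m ∣ ∑ d ∈ m.divisors, cnt G d := by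
  have hm0 : m ≠ 0 := ne_zero_of_dvd_ne_zero Nat.card_pos.ne' hm
  have h := CfsgLib.Counting.frobenius_dvd (G := G) m
  rwa [Nat.gcd_eq_left hm, card_pow_eq_sum hm0] at h

theorem cast_cnt_prime {r : ℕ} (hr : r.Prime) (hrG : r ∣ Nat.card G) :
    (cnt G r : ZMod r) = -1 := by
  have h := dvd_sum_cnt (G := G) hrG
  rw [hr.divisors, Finset.sum_insert (by simpa using hr.one_lt.ne), Finset.sum_singleton, cnt_one] at h
  have h2 : ((1 + cnt G r : ℕ) : ZMod r) = 0 := (ZMod.natCast_eq_zero_iff _ _).mpr h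
  push_cast at h2
  exact (eq_neg_of_add_eq_zero_right h2)

theorem orderOf_mul_of_commute {r m : ℕ} (hcop : r.Coprime m) {y x : G} (hy : orderOf y = r)
    (hx : orderOf x = m) (hc : Commute y x) : orderOf (y * x) = r * m := by
  rw [hc.orderOf_mul_eq_mul_orderOf_of_coprime (by rw [hy, hx]; exact hcop), hy, hx]

/-- If `r` does not divide the number of elements of order `m`, every element of order `r` commutes
with one of order `m`. -/
theorem totient_mul_le {r m : ℕ} (hr : r.Prime) (hcop : r.Coprime m) (h : ¬ r ∣ cnt G m) :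
    Nat.totient m * cnt G r ≤ cnt G (r * m) := by
  classical
  have := Fact.mk hr
  have key : ∀ y : G, orderOf y = r → ∃ x : G, orderOf x = m ∧ Commute y x := by
    intro y hy
    let X := {g : G // orderOf g = m}
    letI : MulAction (zpowers y) X :=
      { smul := fun k g => ⟨(k : G) * g.1 * (k : G)⁻¹, ((MulAut.conj (k : G)).orderOf_eq g.1).trans g.2⟩
        one_smul := fun g => Subtype.ext (show (1 : G) * g.1 * (1 : G)⁻¹ = g.1 by group)
        mul_smul := fun k l g => Subtype.ext (show ((k * l : zpowers y) : G) * g.1 * ((k * l : zpowers y) : G)⁻¹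
          = (k : G) * ((l : G) * g.1 * (l : G)⁻¹) * (k : G)⁻¹ by rw [Subgroup.coe_mul]; group) }
    obtain ⟨g, hg⟩ := (IsPGroup.of_card (n := 1) (by rw [Nat.card_zpowers, hy, pow_one] :
      Nat.card (zpowers y) = r ^ 1)).nonempty_fixed_point_of_prime_not_dvd_card X h
    exact ⟨g.1, g.2, mul_inv_eq_iff_eq_mul.mp (congrArg Subtype.val (hg ⟨y, mem_zpowers y⟩))⟩
  choose f hf1 hf2 using key
  have hgen : ∀ y : {y : G // orderOf y = r}, Nat.card {x : zpowers (f y.1 y.2) // orderOf x = m} =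
      Nat.totient m := fun y => by
    have := Fintype.ofFinite (zpowers (f y.1 y.2))
    rw [Nat.card_eq_fintype_card, Fintype.card_subtype]
    exact IsCyclic.card_orderOf_eq_totient (by
      rw [← Nat.card_eq_fintype_card, Nat.card_zpowers, hf1])
  let S := Σ y : {y : G // orderOf y = r}, {x : zpowers (f y.1 y.2) // orderOf x = m}
  have hS : Nat.card S = Nat.totient m * cnt G r := by
    have := Fintype.ofFinite {y : G // orderOf y = r}
    rw [Nat.card_sigma, Finset.sum_const_nat (m := Nat.totient m) fun y _ => hgen y, Finset.card_univ,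
      mul_comm, cnt, Nat.card_eq_fintype_card]
  have hcomm : ∀ t : S, Commute t.1.1 ((t.2.1 : G)) := fun t => by
    obtain ⟨k, hk⟩ := mem_zpowers_iff.mp t.2.1.2
    rw [← hk]
    exact (hf2 t.1.1 t.1.2).zpow_right k
  rw [← hS]
  refine Nat.card_le_card_of_injective (fun t : S => (⟨t.1.1 * (t.2.1 : G),
    orderOf_mul_of_commute hcop t.1.2 (by rw [Subgroup.orderOf_coe, t.2.2]) (hcomm t)⟩ :
      {g : G // orderOf g = r * m})) ?_
  intro t t' he
  have e0 : t.1.1 * (t.2.1 : G) = t'.1.1 * (t'.2.1 : G) := congrArg Subtype.val he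
  let ins : S → Σ z : {z : G // z ^ r = 1}, {w : Subgroup.centralizer ({z.1} : Set G) // w ^ m = 1} :=
    fun t => ⟨⟨t.1.1, orderOf_dvd_iff_pow_eq_one.mp t.1.2.dvd⟩,
      ⟨⟨t.2.1, mem_centralizer_singleton_iff.mpr (hcomm t).symm.eq⟩, Subtype.ext (by
        show ((t.2.1 : G)) ^ m = 1
        exact orderOf_dvd_iff_pow_eq_one.mp (by rw [Subgroup.orderOf_coe, t.2.2]))⟩⟩
  have h1 : ins t = ins t' :=
    (CfsgLib.Counting.splitEquiv r m hcop).symm.injective (Subtype.ext e0)
  have h2 : t.1.1 = t'.1.1 := congrArg (fun z => z.1.1) h1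
  obtain ⟨⟨y, hy⟩, ⟨⟨x, hx0⟩, hx⟩⟩ := t
  obtain ⟨⟨y', hy'⟩, ⟨⟨x', hx0'⟩, hx'⟩⟩ := t'
  simp only at h2
  subst h2
  obtain rfl : x = x' := mul_left_cancel e0
  rfl

theorem totient_even' {m : ℕ} (hm : 3 ≤ m) : 2 ≤ Nat.totient m := by
  obtain ⟨k, hk⟩ := Nat.totient_even (n := m) (by omega)
  have := Nat.totient_pos.mpr (show 0 < m by omega)
  omega

theorem two_le_cnt {m : ℕ} (hm : 3 ≤ m) (h : ∃ g : G, orderOf g = m) : 2 ≤ cnt G m :=
  (totient_even' hm).trans (Nat.le_of_dvd (cnt_pos h) (CfsgLib.Counting.totient_dvd_card_orderOf m))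

/-- All counts of elements of order at least `3` are among two values. -/
def TwoVal (G : Type*) [Monoid G] (a b : ℕ) : Prop :=
  ∀ m : ℕ, 3 ≤ m → (∃ g : G, orderOf g = m) → cnt G m = a ∨ cnt G m = b

theorem TwoVal.symm {a b : ℕ} (h : TwoVal G a b) : TwoVal G b a := fun m hm he => (h m hm he).symm

theorem cast_sum_two {r s : ℕ} (hr : r.Prime) (hs : s.Prime) (hrs : r ≠ s) (hrG : r ∣ Nat.card G)
    (hsG : s ∣ Nat.card G) :
    (cnt G s : ZMod r) + (cnt G (r * s) : ZMod r) = 0 := by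
  have hm : r * s ∣ Nat.card G := ((Nat.coprime_primes hr hs).mpr hrs).mul_dvd_of_dvd_of_dvd hrG hsG
  have h := (Dvd.intro s rfl).trans (dvd_sum_cnt hm)
  have e : ∑ d ∈ (r * s).divisors, cnt G d = 1 + cnt G r + cnt G s + cnt G (r * s) := by
    rw [sum_divisors_mul_prime _ hr.ne_zero hs ((Nat.coprime_primes hr hs).mpr hrs)]
    simp only [hr.divisors, hs.divisors, Finset.sum_insert (show (1 : ℕ) ∉ ({r} : Finset ℕ) by
      simpa using hr.one_lt.ne), Finset.sum_insert (show (1 : ℕ) ∉ ({s} : Finset ℕ) by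
      simpa using hs.one_lt.ne), Finset.sum_singleton, one_mul, mul_one, cnt_one]
    ring
  rw [e] at h
  have h2 : ((1 + cnt G r + cnt G s + cnt G (r * s) : ℕ) : ZMod r) = 0 :=
    (ZMod.natCast_eq_zero_iff _ _).mpr h
  push_cast at h2
  rw [cast_cnt_prime hr hrG] at h2
  linear_combination h2

theorem exists_prime_order {r : ℕ} (hr : r.Prime) (hrG : r ∣ Nat.card G) : ∃ g : G, orderOf g = r := by
  have := Fact.mk hr
  exact exists_prime_orderOf_dvd_card' r hrG

/-- Two odd primes with equally many elements of those orders. -/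
theorem same_class {a b r s : ℕ} (h : TwoVal G a b) (hr : r.Prime) (hs : s.Prime) (hrs : r ≠ s)
    (hr3 : 3 ≤ r) (hs3 : 3 ≤ s) (hrG : r ∣ Nat.card G) (hsG : s ∣ Nat.card G) (hra : cnt G r = a)
    (hsa : cnt G s = a) :
    cnt G (r * s) = b ∧ a < b ∧ (b : ZMod r) = 1 ∧ (b : ZMod s) = 1 := by
  have := Fact.mk hr
  have ha : 2 ≤ a := hra ▸ two_le_cnt hr3 (exists_prime_order hr hrG)
  have h1 : ¬ r ∣ cnt G s := by
    rw [← ZMod.natCast_eq_zero_iff, hsa, ← hra, cast_cnt_prime hr hrG]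
    exact neg_ne_zero.mpr one_ne_zero
  have h2 := totient_mul_le hr ((Nat.coprime_primes hr hs).mpr hrs) h1
  rw [Nat.totient_prime hs, hra] at h2
  have h3 : 2 * a ≤ cnt G (r * s) := le_trans (Nat.mul_le_mul_right a (by omega)) h2
  have hN : cnt G (r * s) = b := by
    refine (h (r * s) (le_trans hr3 (Nat.le_mul_of_pos_right r hs.pos))
      (exists_of_cnt_pos (by omega))).resolve_left fun e => ?_
    omega
  have e1 := cast_sum_two hr hs hrs hrG hsG
  have e2 := cast_sum_two hs hr hrs.symm hsG hrG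
  rw [hsa, ← hra, cast_cnt_prime hr hrG, hN] at e1
  rw [hra, ← hsa, cast_cnt_prime hs hsG, mul_comm s r, hN] at e2
  exact ⟨hN, by omega, by linear_combination e1, by linear_combination e2⟩

/-- Two odd primes with different numbers of elements of those orders are not adjacent. -/
theorem diff_class {a b r s : ℕ} (h : TwoVal G a b) (hr : r.Prime) (hs : s.Prime) (hrs : r ≠ s)
    (hr3 : 3 ≤ r) (hs3 : 3 ≤ s) (hrG : r ∣ Nat.card G) (hsG : s ∣ Nat.card G) (hra : cnt G r = a)
    (hsb : cnt G s = b) : ∀ g : G, orderOf g ≠ r * s := by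
  suffices key : ∀ {a b r s : ℕ}, r.Prime → s.Prime → r ≠ s → 3 ≤ r → 3 ≤ s → r ∣ Nat.card G →
      s ∣ Nat.card G → cnt G r = a → cnt G s = b → cnt G (r * s) = b → False by
    intro g hg
    rcases h (r * s) (le_trans hr3 (Nat.le_mul_of_pos_right r hs.pos)) ⟨g, hg⟩ with e | e
    · exact key hs hr hrs.symm hs3 hr3 hsG hrG hsb hra (by rwa [mul_comm])
    · exact key hr hs hrs hr3 hs3 hrG hsG hra hsb e
  intro a b r s hr hs hrs hr3 hs3 hrG hsG hra hsb hN
  have := Fact.mk hs
  have hb : 2 ≤ b := hsb ▸ two_le_cnt hs3 (exists_prime_order hs hsG)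
  have e2 := cast_sum_two hs hr hrs.symm hsG hrG
  rw [mul_comm s r, hN, ← hsb, cast_cnt_prime hs hsG] at e2
  have h1 : ¬ s ∣ cnt G r := by
    rw [← ZMod.natCast_eq_zero_iff, show (cnt G r : ZMod s) = 1 by linear_combination e2]
    exact one_ne_zero
  have h2 := totient_mul_le hs ((Nat.coprime_primes hs hr).mpr hrs.symm) h1
  rw [Nat.totient_prime hr, hsb, mul_comm s r, hN] at h2
  have : 2 * b ≤ b := le_trans (Nat.mul_le_mul_right b (by omega)) h2
  omega

theorem cast_sum_three {r s t : ℕ} (hr : r.Prime) (hs : s.Prime) (ht : t.Prime) (hrs : r ≠ s)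
    (hrt : r ≠ t) (hst : s ≠ t) (hrG : r ∣ Nat.card G) (hsG : s ∣ Nat.card G) (htG : t ∣ Nat.card G) :
    (cnt G s : ZMod r) + cnt G t + cnt G (r * s) + cnt G (r * t) + cnt G (s * t) +
      cnt G (r * s * t) = 0 := by
  have c1 : r.Coprime s := (Nat.coprime_primes hr hs).mpr hrs
  have c2 : (r * s).Coprime t :=
    ((Nat.coprime_primes hr ht).mpr hrt).mul_left ((Nat.coprime_primes hs ht).mpr hst)
  have hm : r * s * t ∣ Nat.card G := c2.mul_dvd_of_dvd_of_dvd (c1.mul_dvd_of_dvd_of_dvd hrG hsG) htG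
  have h := ((Dvd.intro s rfl).trans (dvd_mul_right (r * s) t)).trans (dvd_sum_cnt hm)
  have e : ∑ d ∈ (r * s * t).divisors, cnt G d = 1 + cnt G r + cnt G s + cnt G t + cnt G (r * s) +
      cnt G (r * t) + cnt G (s * t) + cnt G (r * s * t) := by
    rw [sum_divisors_mul_prime _ (Nat.mul_ne_zero hr.ne_zero hs.ne_zero) ht c2,
      sum_divisors_mul_prime _ hr.ne_zero hs c1, sum_divisors_mul_prime _ hr.ne_zero hs c1]
    simp only [hr.divisors, hs.divisors, ht.divisors, Finset.sum_insert (show (1 : ℕ) ∉ ({r} : Finset ℕ) by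
      simpa using hr.one_lt.ne), Finset.sum_insert (show (1 : ℕ) ∉ ({s} : Finset ℕ) by
      simpa using hs.one_lt.ne), Finset.sum_insert (show (1 : ℕ) ∉ ({t} : Finset ℕ) by
      simpa using ht.one_lt.ne), Finset.sum_singleton, one_mul, mul_one, cnt_one]
    ring
  rw [e] at h
  have h2 := (ZMod.natCast_eq_zero_iff _ r).mpr h
  push_cast at h2
  rw [cast_cnt_prime hr hrG] at h2
  linear_combination h2

theorem not_three {a b : ℕ} (h : TwoVal G a b) {r s t : ℕ} (hr : r.Prime) (hs : s.Prime)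
    (ht : t.Prime) (hr3 : 3 ≤ r) (hs3 : 3 ≤ s) (ht3 : 3 ≤ t) (hrs : r ≠ s) (hrt : r ≠ t) (hst : s ≠ t)
    (hrG : r ∣ Nat.card G) (hsG : s ∣ Nat.card G) (htG : t ∣ Nat.card G) : False := by
  suffices key : ∀ {a b : ℕ}, TwoVal G a b → ∀ {r s t : ℕ}, r.Prime → s.Prime → t.Prime → 3 ≤ r →
      3 ≤ s → 3 ≤ t → r ≠ s → r ≠ t → s ≠ t → r ∣ Nat.card G → s ∣ Nat.card G → t ∣ Nat.card G →
      cnt G r = a → cnt G s = a → False by
    rcases h r hr3 (exists_prime_order hr hrG) with e1 | e1 <;>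
      rcases h s hs3 (exists_prime_order hs hsG) with e2 | e2 <;>
      rcases h t ht3 (exists_prime_order ht htG) with e3 | e3
    all_goals first
      | exact key h hr hs ht hr3 hs3 ht3 hrs hrt hst hrG hsG htG e1 e2
      | exact key h.symm hr hs ht hr3 hs3 ht3 hrs hrt hst hrG hsG htG e1 e2
      | exact key h hr ht hs hr3 ht3 hs3 hrt hrs hst.symm hrG htG hsG e1 e3
      | exact key h.symm hr ht hs hr3 ht3 hs3 hrt hrs hst.symm hrG htG hsG e1 e3
      | exact key h hs ht hr hs3 ht3 hr3 hst hrs.symm hrt.symm hsG htG hrG e2 e3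
      | exact key h.symm hs ht hr hs3 ht3 hr3 hst hrs.symm hrt.symm hsG htG hrG e2 e3
  intro a b h r s t hr hs ht hr3 hs3 ht3 hrs hrt hst hrG hsG htG hra hsa
  have := Fact.mk hr
  have := Fact.mk ht
  obtain ⟨hN, hab, hbr, -⟩ := same_class h hr hs hrs hr3 hs3 hrG hsG hra hsa
  rcases h t ht3 (exists_prime_order ht htG) with hta | htb
  · obtain ⟨hN2, -, -, hbt⟩ := same_class h hr ht hrt hr3 ht3 hrG htG hra hta
    obtain ⟨hN3, -, -, -⟩ := same_class h hs ht hst hs3 ht3 hsG htG hsa hta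
    have h1 : ¬ t ∣ cnt G (r * s) := by
      rw [← ZMod.natCast_eq_zero_iff, hN, hbt]; exact one_ne_zero
    have h2 := totient_mul_le ht (((Nat.coprime_primes ht hr).mpr hrt.symm).mul_right
      ((Nat.coprime_primes ht hs).mpr hst.symm)) h1
    rw [Nat.totient_mul ((Nat.coprime_primes hr hs).mpr hrs), Nat.totient_prime hr,
      Nat.totient_prime hs, hta, mul_comm t (r * s)] at h2
    have ha : 2 ≤ a := hta ▸ two_le_cnt ht3 (exists_prime_order ht htG)
    have h3 : 4 * a ≤ cnt G (r * s * t) :=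
      le_trans (Nat.mul_le_mul_right a (Nat.mul_le_mul (show 2 ≤ r - 1 by omega) (show 2 ≤ s - 1 by omega))) h2
    have hN4 : cnt G (r * s * t) = b := by
      refine (h (r * s * t) ?_ (exists_of_cnt_pos (by omega))).resolve_left fun e => by omega
      exact le_trans hr3 (le_trans (Nat.le_mul_of_pos_right r hs.pos) (Nat.le_mul_of_pos_right _ ht.pos))
    have e := cast_sum_three hr hs ht hrs hrt hst hrG hsG htG
    have ea : (a : ZMod r) = -1 := hra ▸ cast_cnt_prime hr hrG
    rw [hsa, hta, hN, hN2, hN3, hN4, ea, hbr] at e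
    have e2 : ((2 : ℕ) : ZMod r) = 0 := by push_cast; linear_combination e
    have := Nat.le_of_dvd (by norm_num) ((ZMod.natCast_eq_zero_iff _ _).mp e2)
    omega
  · have h1 : ¬ r ∣ cnt G t := by
      rw [← ZMod.natCast_eq_zero_iff, htb, hbr]; exact one_ne_zero
    have h2 := totient_mul_le hr ((Nat.coprime_primes hr ht).mpr hrt) h1
    have hpos : 0 < cnt G (r * t) := lt_of_lt_of_le
      (Nat.mul_pos (Nat.totient_pos.mpr ht.pos) (cnt_pos (exists_prime_order hr hrG))) h2
    obtain ⟨g, hg⟩ := exists_of_cnt_pos hpos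
    exact diff_class h hr ht hrt hr3 ht3 hrG htG hra htb g hg

/-- With two odd primes no element has order the square of one of them. -/
theorem not_sq {a b r s : ℕ} (h : TwoVal G a b) (hr : r.Prime) (hs : s.Prime) (hrs : r ≠ s)
    (hr3 : 3 ≤ r) (hs3 : 3 ≤ s) (hrG : r ∣ Nat.card G) (hsG : s ∣ Nat.card G) :
    ∀ g : G, orderOf g ≠ r ^ 2 := by
  suffices key : ∀ {a b : ℕ}, TwoVal G a b → cnt G r = a → ∀ g : G, orderOf g ≠ r ^ 2 by
    rcases h r hr3 (exists_prime_order hr hrG) with e | e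
    · exact key h e
    · exact key h.symm e
  intro a b h hra g hg
  have := Fact.mk hr
  have := Fact.mk hs
  have hr2 : 3 ≤ r ^ 2 := le_trans hr3 (Nat.le_self_pow two_ne_zero r)
  have hz : (cnt G (r ^ 2) : ZMod r) = 0 := by
    rw [ZMod.natCast_eq_zero_iff]
    refine dvd_trans ?_ (CfsgLib.Counting.totient_dvd_card_orderOf (r ^ 2))
    rw [Nat.totient_prime_pow hr (by norm_num)]
    exact dvd_mul_of_dvd_left (by simp) _
  have hne : cnt G (r ^ 2) ≠ a := fun e => by
    rw [e, ← hra, cast_cnt_prime hr hrG] at hz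
    exact neg_ne_zero.mpr one_ne_zero hz
  have hb : cnt G (r ^ 2) = b := (h _ hr2 ⟨g, hg⟩).resolve_left hne
  rcases h s hs3 (exists_prime_order hs hsG) with hsa | hsb
  · obtain ⟨-, -, hbr, -⟩ := same_class h hr hs hrs hr3 hs3 hrG hsG hra hsa
    rw [hb, hbr] at hz
    exact one_ne_zero hz
  · have h1 : ¬ s ∣ cnt G (r ^ 2) := by
      rw [← ZMod.natCast_eq_zero_iff, hb, ← hsb, cast_cnt_prime hs hsG]
      exact neg_ne_zero.mpr one_ne_zero
    have h2 := totient_mul_le hs (((Nat.coprime_primes hs hr).mpr hrs.symm).pow_right 2) h1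
    have hpos : 0 < cnt G (s * r ^ 2) := lt_of_lt_of_le
      (Nat.mul_pos (Nat.totient_pos.mpr (by positivity)) (cnt_pos (exists_prime_order hs hsG))) h2
    obtain ⟨x, hx⟩ := exists_of_dvd (d := r * s)
      (by rw [mul_comm r]; exact Nat.mul_dvd_mul_left s (dvd_pow_self r two_ne_zero))
      (exists_of_cnt_pos hpos)
    exact diff_class h hr hs hrs hr3 hs3 hrG hsG hra hsb x hx

theorem card_odd_primes_le_two {a b : ℕ} (h : TwoVal G a b) :
    ((Nat.card G).primeFactors.erase 2).card ≤ 2 := by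
  by_contra hc
  obtain ⟨p, q, r, hp, hq, hr, hpq, hpr, hqr⟩ := Finset.two_lt_card_iff.mp (not_le.mp hc)
  rw [Finset.mem_erase, Nat.mem_primeFactors] at hp hq hr
  have := hp.2.1.two_le; have := hq.2.1.two_le; have := hr.2.1.two_le
  exact not_three h hp.2.1 hq.2.1 hr.2.1 (by omega) (by omega) (by omega) hpq hpr hqr hp.2.2.1
    hq.2.2.1 hr.2.2.1

theorem isSolvable_of_two_primes {H : Type*} [Group H] [Finite H]
    (h : (Nat.card H).primeFactors.card ≤ 2) : Group.IsSolvable H := by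
  obtain ⟨p, q, hp, hq, hsub⟩ : ∃ p q : ℕ, p.Prime ∧ q.Prime ∧ (Nat.card H).primeFactors ⊆ {p, q} := by
    obtain hc | hc | hc : (Nat.card H).primeFactors.card = 0 ∨ (Nat.card H).primeFactors.card = 1 ∨
        (Nat.card H).primeFactors.card = 2 := by omega
    · exact ⟨2, 3, Nat.prime_two, Nat.prime_three, by rw [Finset.card_eq_zero.mp hc]; exact Finset.empty_subset _⟩
    · obtain ⟨p, hp⟩ := Finset.card_eq_one.mp hc
      exact ⟨p, p, Nat.prime_of_mem_primeFactors (n := Nat.card H) (by rw [hp]; simp),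
        Nat.prime_of_mem_primeFactors (n := Nat.card H) (by rw [hp]; simp), by rw [hp]; simp⟩
    · obtain ⟨p, q, -, hpq⟩ := Finset.card_eq_two.mp hc
      exact ⟨p, q, Nat.prime_of_mem_primeFactors (n := Nat.card H) (by rw [hpq]; simp),
        Nat.prime_of_mem_primeFactors (n := Nat.card H) (by rw [hpq]; simp), by rw [hpq]⟩
  refine CfsgLib.Char.isSolvable_of_card_eq_prime_pow_mul (a := (Nat.card H).factorization p)
    (b := if p = q then 0 else (Nat.card H).factorization q) hp hq ?_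
  conv_lhs => rw [← Nat.prod_factorization_pow_eq_self (n := Nat.card H) Nat.card_pos.ne']
  rw [Finsupp.prod_of_support_subset _ (s := {p, q}) (by rw [Nat.support_factorization]; exact hsub) _
    (fun i _ => pow_zero i)]
  split_ifs with e
  · subst e; simp
  · simp [Finset.prod_pair e]

end CfsgLib.OrderValues

namespace CfsgLib.OrderValues

variable {G : Type*} [Group G] [Finite G]

theorem cast_cnt_two (h2 : 2 ∣ Nat.card G) : ¬ 2 ∣ cnt G 2 := by
  have := Fact.mk Nat.prime_two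
  rw [← ZMod.natCast_eq_zero_iff, cast_cnt_prime Nat.prime_two h2]
  exact neg_ne_zero.mpr one_ne_zero

theorem two_dvd_cnt {m : ℕ} (hm : 3 ≤ m) : 2 ∣ cnt G m :=
  (even_iff_two_dvd.mp (Nat.totient_even (by omega))).trans (CfsgLib.Counting.totient_dvd_card_orderOf m)

/-- A unique involution. -/
theorem central_involution (h : cnt G 2 = 1) :
    ∃ z : G, orderOf z = 2 ∧ (∀ g : G, Commute z g) ∧ ∀ g : G, orderOf g = 2 → g = z := by
  obtain ⟨hs, ⟨z, hz⟩⟩ := Nat.card_eq_one_iff_unique.mp h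
  have huniq : ∀ g : G, orderOf g = 2 → g = z := fun g hg =>
    congrArg Subtype.val (Subsingleton.elim (⟨g, hg⟩ : {g : G // orderOf g = 2}) ⟨z, hz⟩)
  refine ⟨z, hz, fun g => ?_, huniq⟩
  have h1 := huniq (g * z * g⁻¹) (((MulAut.conj g).orderOf_eq z).trans hz)
  exact (mul_inv_eq_iff_eq_mul.mp h1).symm

theorem cnt_two_mul (h : cnt G 2 = 1) {d : ℕ} (hd : Odd d) : cnt G (2 * d) = cnt G d := by
  obtain ⟨z, hz, hc, huniq⟩ := central_involution h
  have hzz : z * z = 1 := by rw [← pow_two, ← hz, pow_orderOf_eq_one]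
  have hcop : Nat.Coprime 2 d := Nat.prime_two.coprime_iff_not_dvd.mpr fun h' =>
    (Nat.not_even_iff_odd.mpr hd) (even_iff_two_dvd.mpr h')
  have key : ∀ g : G, orderOf g = 2 * d → orderOf (z * g) = d := by
    intro g hg
    have hgd : g ^ d = z := huniq _ (by
      rw [orderOf_pow_of_dvd hd.pos.ne' (hg ▸ dvd_mul_left d 2), hg, Nat.mul_div_cancel _ hd.pos])
    have hzd : z ^ d = z := by
      obtain ⟨k, rfl⟩ := hd
      rw [pow_succ, pow_mul, ← hz, pow_orderOf_eq_one, one_pow, one_mul]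
    have h1 : orderOf (z * g) ∣ d := orderOf_dvd_of_pow_eq_one (by
      rw [(hc g).mul_pow, hgd, hzd, hzz])
    refine Nat.dvd_antisymm h1 ?_
    have h2 : orderOf (z * (z * g)) ∣ 2 * orderOf (z * g) :=
      hz ▸ ((hc (z * g)).orderOf_mul_dvd_mul_orderOf)
    rw [← mul_assoc, hzz, one_mul, hg] at h2
    exact Nat.dvd_of_mul_dvd_mul_left two_pos h2
  refine Nat.card_congr
    { toFun := fun g => ⟨z * g.1, key g.1 g.2⟩
      invFun := fun g => ⟨z * g.1, orderOf_mul_of_commute hcop hz g.2 (hc g.1)⟩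
      left_inv := fun g => Subtype.ext (show z * (z * g.1) = g.1 by rw [← mul_assoc, hzz, one_mul])
      right_inv := fun g => Subtype.ext (show z * (z * g.1) = g.1 by rw [← mul_assoc, hzz, one_mul]) }

end CfsgLib.OrderValues
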