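import Mathlib

open scoped Pointwise

namespace CfsgLib.TI

variable {G : Type*} [Group G]

theorem mem_conj_smul_iff (g x : G) (H : Subgroup G) :
    x ∈ MulAut.conj g • H ↔ g⁻¹ * x * g ∈ H := by
  rw [Subgroup.mem_pointwise_smul_iff_inv_smul_mem]
  simp [MulAut.smul_def]

/-- The TI property of a subgroup, elementwise. -/
theorem ti_elim {P : Subgroup G}
    (hTI : ∀ g : G, g ∉ Subgroup.normalizer (P : Set G) → P ⊓ (MulAut.conj g • P) = ⊥)
    {g x : G} (hx : x ∈ P) (hgx : g⁻¹ * x * g ∈ P) (hx1 : x ≠ 1) :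
    g ∈ Subgroup.normalizer (P : Set G) := by
  by_contra h
  have : x ∈ P ⊓ (MulAut.conj g • P) := ⟨hx, (mem_conj_smul_iff g x P).mpr hgx⟩
  rw [hTI g h, Subgroup.mem_bot] at this
  exact hx1 this

theorem ti_intro {P : Subgroup G}
    (h : ∀ g x : G, x ∈ P → g⁻¹ * x * g ∈ P → x ≠ 1 → g ∈ Subgroup.normalizer (P : Set G)) :
    ∀ g : G, g ∉ Subgroup.normalizer (P : Set G) → P ⊓ (MulAut.conj g • P) = ⊥ := by
  intro g hg
  rw [eq_bot_iff]
  rintro x ⟨hx, hx'⟩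
  rw [Subgroup.mem_bot]
  by_contra hx1
  exact hg (h g x hx ((mem_conj_smul_iff g x P).mp hx') hx1)

theorem mem_normalizer_conj_smul (g h : G) (P : Subgroup G) :
    g ∈ Subgroup.normalizer ((MulAut.conj h • P : Subgroup G) : Set G) ↔
      h⁻¹ * g * h ∈ Subgroup.normalizer (P : Set G) := by
  simp only [Subgroup.mem_normalizer_iff, mem_conj_smul_iff]
  constructor
  · intro hg x
    have := hg (h * x * h⁻¹)
    rw [show h⁻¹ * (h * x * h⁻¹) * h = x by group,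
      show h⁻¹ * (g * (h * x * h⁻¹) * g⁻¹) * h = h⁻¹ * g * h * x * (h⁻¹ * g * h)⁻¹ by group] at this
    exact this
  · intro hg x
    have := hg (h⁻¹ * x * h)
    rw [show h⁻¹ * g * h * (h⁻¹ * x * h) * (h⁻¹ * g * h)⁻¹ = h⁻¹ * (g * x * g⁻¹) * h by group]
      at this
    exact this

theorem ti_conj_smul {P : Subgroup G}
    (hTI : ∀ g : G, g ∉ Subgroup.normalizer (P : Set G) → P ⊓ (MulAut.conj g • P) = ⊥) (h : G) :
    ∀ g : G, g ∉ Subgroup.normalizer ((MulAut.conj h • P : Subgroup G) : Set G) →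
      (MulAut.conj h • P) ⊓ (MulAut.conj g • (MulAut.conj h • P)) = ⊥ := by
  refine ti_intro fun g x hx hgx hx1 => ?_
  rw [mem_conj_smul_iff] at hx hgx
  rw [mem_normalizer_conj_smul]
  refine ti_elim hTI hx ?_ ?_
  · rwa [show (h⁻¹ * g * h)⁻¹ * (h⁻¹ * x * h) * (h⁻¹ * g * h) = h⁻¹ * (g⁻¹ * x * g) * h by group]
  · intro he
    exact hx1 (by rw [show x = h * (h⁻¹ * x * h) * h⁻¹ by group, he]; group)

/-- In a finite group, a TI Sylow subgroup makes every Sylow subgroup TI. -/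
theorem ti_sylow {p : ℕ} [Fact p.Prime] [Finite G] (P P' : Sylow p G)
    (hTI : ∀ g : G, g ∉ Subgroup.normalizer ((P : Subgroup G) : Set G) →
      (P : Subgroup G) ⊓ (MulAut.conj g • (P : Subgroup G)) = ⊥) :
    ∀ g : G, g ∉ Subgroup.normalizer ((P' : Subgroup G) : Set G) →
      (P' : Subgroup G) ⊓ (MulAut.conj g • (P' : Subgroup G)) = ⊥ := by
  obtain ⟨h, rfl⟩ := MulAction.exists_smul_eq G P P'
  rw [Sylow.coe_subgroup_smul]
  exact ti_conj_smul hTI h

/-- A subgroup meeting a Sylow subgroup for every prime in all of it is the whole group. -/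
theorem eq_top_of_sylow_le [Finite G] (H : Subgroup G)
    (h : ∀ q : ℕ, q.Prime → ∃ Q : Sylow q G, (Q : Subgroup G) ≤ H) : H = ⊤ := by
  rw [← Subgroup.index_eq_one]
  by_contra hne
  obtain ⟨q, hq, hqd⟩ := Nat.exists_prime_and_dvd hne
  have := Fact.mk hq
  obtain ⟨Q, hQ⟩ := h q hq
  exact Q.not_dvd_index (hqd.trans (Subgroup.index_dvd_of_le hQ))

theorem sylow_orderOf_eq_pow {p : ℕ} [Fact p.Prime] (P : Sylow p G) {x : G} (hx : x ∈ (P : Subgroup G)) :
    ∃ a : ℕ, orderOf x = p ^ a := by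
  obtain ⟨k, hk⟩ := (IsPGroup.iff_orderOf.mp P.2) ⟨x, hx⟩
  exact ⟨k, by simpa [Subgroup.orderOf_mk] using hk⟩

end CfsgLib.TI
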